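import Groth.Prelude.Def_Pi1
import Groth.Prelude.Def_FEt
import Groth.Agent.Pi1A.NormalFF
import Mathlib.AlgebraicGeometry.FunctionField

/-!
# Finite étale covers of a normal domain and of its field of fractions
-/

set_option autoImplicit false
universe u
open CategoryTheory CategoryTheory.Limits AlgebraicGeometry

namespace Groth.Agent.Lefpen.H416.NormalBase

/-- The spectrum of a normal domain is a normal scheme. -/
theorem isNormalScheme_spec (A : Type u) [CommRing A] [IsDomain A] [IsIntegrallyClosed A] :
    Pi1.IsNormalScheme (Spec (CommRingCat.of A)) := by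
  intro x
  have hx : x.asIdeal.IsPrime := x.isPrime
  let _ : Algebra A ((Spec (CommRingCat.of A)).presheaf.stalk x) := StructureSheaf.stalkAlgebra A x
  have h1 : IsLocalization.AtPrime ((Spec (CommRingCat.of A)).presheaf.stalk x) x.asIdeal :=
    StructureSheaf.IsLocalization.to_stalk A x
  have h2 : IsDomain ((Spec (CommRingCat.of A)).presheaf.stalk x) :=
    IsLocalization.isDomain_of_atPrime _ x.asIdeal
  exact ⟨h2, isIntegrallyClosed_of_isLocalization _ x.asIdeal.primeCompl
    x.asIdeal.primeCompl_le_nonZeroDivisors⟩

/-- The image of the spectrum of an extension field of the fraction field of a domain. -/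
theorem range_specMap (A K : Type u) [CommRing A] [IsDomain A] [Field K] [Algebra A K]
    (h : Function.Injective (algebraMap A K)) :
    Set.range (Spec.map (CommRingCat.ofHom (algebraMap A K))) =
      {genericPoint (Spec (CommRingCat.of A))} := by
  have hgen : genericPoint (Spec (CommRingCat.of A)) = (⟨⊥, Ideal.isPrime_bot⟩ : PrimeSpectrum A) :=
    genericPoint_eq_bot_of_affine (CommRingCat.of A)
  have key (y : Spec (CommRingCat.of K)) : Spec.map (CommRingCat.ofHom (algebraMap A K)) y =
      genericPoint (Spec (CommRingCat.of A)) := by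
    rw [hgen]
    have hy : y = (⟨⊥, Ideal.isPrime_bot⟩ : PrimeSpectrum K) :=
      @Subsingleton.elim (PrimeSpectrum K) _ y _
    rw [hy]
    apply PrimeSpectrum.ext
    change Ideal.comap (algebraMap A K) ⊥ = ⊥
    exact (RingHom.injective_iff_ker_eq_bot _).mp h
  ext x
  constructor
  · rintro ⟨y, rfl⟩
    exact key y
  · rintro rfl
    exact ⟨(⟨⊥, Ideal.isPrime_bot⟩ : PrimeSpectrum K), key _⟩

/-- For a normal domain `A` with fraction field `K`, restriction of finite étale covers to `Spec K`
is fully faithful. -/
theorem ff_fractionRing (A K : Type u) [CommRing A] [IsDomain A] [IsIntegrallyClosed A] [Field K]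
    [Algebra A K] [IsFractionRing A K] :
    (FEt.restrict (Spec.map (CommRingCat.ofHom (algebraMap A K)))).Full ∧
      (FEt.restrict (Spec.map (CommRingCat.ofHom (algebraMap A K)))).Faithful := by
  have hpre : IsPreimmersion (Spec.map (CommRingCat.ofHom (algebraMap A K))) :=
    IsPreimmersion.of_isLocalization (nonZeroDivisors A)
  have hrange := range_specMap A K (IsFractionRing.injective A K)
  apply Groth.Agent.Pi1A.NormalFF.fullyFaithful_of_normal (isNormalScheme_spec A)
  · intro T
    have : IsPreimmersion (pullback.fst T.hom (Spec.map (CommRingCat.ofHom (algebraMap A K)))) :=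
      MorphismProperty.pullback_fst _ _ hpre
    exact (pullback.fst T.hom (Spec.map (CommRingCat.ofHom (algebraMap A K)))).isEmbedding.injective
  · rw [hrange]; rfl
  · intro T W hW ⟨w, hw⟩
    refine ⟨w, hw, ?_⟩
    have : T.hom (pullback.fst T.hom (Spec.map (CommRingCat.ofHom (algebraMap A K))) w) ∈
        Set.range (Spec.map (CommRingCat.ofHom (algebraMap A K))) := by
      rw [← Scheme.Hom.comp_apply, pullback.condition, Scheme.Hom.comp_apply]
      exact ⟨_, rfl⟩
    rwa [hrange] at this

end Groth.Agent.Lefpen.H416.NormalBase
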