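import Groth.Prelude.Def_Pi1
import Groth.Prelude.Def_FEt
import Groth.Prelude.Def_Hensel
import Groth.Agent.Lefpen.H416.NormalBase
import Groth.Agent.Pi1.H384.SplitBasic
import Groth.Agent.Pi1C.StrictHensWE
import Groth.Agent.CurvesC.RegNormal
import Groth.Agent.S1143
import Groth.Agent.S0287

/-!
# Extension of a finite étale cover across an irreducible closed subset
-/

set_option autoImplicit false
universe u
open CategoryTheory CategoryTheory.Limits AlgebraicGeometry
open Groth.Agent.Pi1A.FEtAffine Groth.Agent.Pi1.H384.SplitBasic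

namespace Groth.Agent.Lefpen.H416.Fex

/-- Open subschemes of normal schemes are normal. -/
theorem isNormalScheme_of_isOpenImmersion {X Y : Scheme.{u}} (f : X ⟶ Y) [IsOpenImmersion f]
    (hY : Pi1.IsNormalScheme Y) : Pi1.IsNormalScheme X := by
  intro x
  obtain ⟨h1, h2⟩ := hY (f x)
  let e : Y.presheaf.stalk (f x) ≃+* X.presheaf.stalk x :=
    (asIso (f.stalkMap x)).commRingCatIsoToRingEquiv
  exact ⟨e.symm.toMulEquiv.isDomain _, IsIntegrallyClosed.of_equiv e⟩

/-- Restriction of finite étale covers of a normal integral scheme to its generic point. -/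
theorem ff_of_fieldPoint {P : Scheme.{u}} [IsIntegral P] (hP : Pi1.IsNormalScheme P) {X' : Scheme.{u}}
    (b : X' ⟶ P) [hpre : IsPreimmersion b] (hr : Set.range b = {genericPoint P}) :
    (FEt.restrict b).Full ∧ (FEt.restrict b).Faithful := by
  apply Groth.Agent.Pi1A.NormalFF.fullyFaithful_of_normal hP
  · intro T
    have : IsPreimmersion (pullback.fst T.hom b) := MorphismProperty.pullback_fst _ _ hpre
    exact (pullback.fst T.hom b).isEmbedding.injective
  · rw [hr]; rfl
  · intro T W hW ⟨w, hw⟩
    refine ⟨w, hw, ?_⟩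
    have : T.hom (pullback.fst T.hom b w) ∈ Set.range b := by
      rw [← Scheme.Hom.comp_apply, pullback.condition, Scheme.Hom.comp_apply]
      exact ⟨_, rfl⟩
    rwa [hr] at this

/-- A codimension one point of an irreducible closed subset not containing the generic point
specializes to every point of it. -/
theorem specializes_of_dim_one {S : Scheme.{u}} [IsIntegral S] (U : S.Opens)
    (hU : (U : Set S).Nonempty) (hD : IsIrreducible ((U : Set S)ᶜ)) (s ξ : S) (hs : s ∉ U)
    (hξ : ξ ∉ U) (hdim : ringKrullDim (S.presheaf.stalk ξ) = 1) : ξ ⤳ s := by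
  have hcl : IsClosed ((U : Set S)ᶜ) := U.isOpen.isClosed_compl
  obtain ⟨η, hη⟩ := QuasiSober.sober hD hcl
  have hηξ : η ⤳ ξ := hη.specializes hξ
  have hηs : η ⤳ s := hη.specializes hs
  have hηU : η ∉ U := by
    have : η ∈ ((U : Set S)ᶜ) := hη.mem
    exact this
  obtain ⟨p, hp⟩ : η ∈ Set.range (S.fromSpecStalk ξ) := by
    rw [Scheme.range_fromSpecStalk]
    exact hηξ
  have hdom : IsDomain (S.presheaf.stalk ξ) := inferInstance
  have hd1 : Ring.KrullDimLE 1 (S.presheaf.stalk ξ) :=
    (Ring.krullDimLE_iff).mpr (by rw [hdim]; rfl)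
  have : p.asIdeal.IsPrime := p.isPrime
  by_cases hp0 : p.asIdeal = ⊥
  · exfalso
    apply hηU
    have hgen : genericPoint S ∈ U :=
      ((genericPoint_spec S).mem_open_set_iff U.isOpen).mpr (by simpa using hU)
    obtain ⟨q, hq⟩ : genericPoint S ∈ Set.range (S.fromSpecStalk ξ) := by
      rw [Scheme.range_fromSpecStalk]
      exact genericPoint_specializes ξ
    have hpq : p ⤳ q := by
      refine (PrimeSpectrum.le_iff_specializes (R := S.presheaf.stalk ξ) p q).mp ?_
      change p.asIdeal ≤ q.asIdeal
      rw [hp0]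
      exact bot_le
    have h1 : η ⤳ genericPoint S := by
      rw [← hp, ← hq]
      exact hpq.map (S.fromSpecStalk ξ).continuous
    have h2 : genericPoint S ⤳ η := genericPoint_specializes η
    have h3 : η = genericPoint S := (h1.antisymm h2).eq
    rw [h3]
    exact hgen
  · have hmax : p.asIdeal.IsMaximal := Ideal.IsPrime.isMaximal_of_ne_bot this hp0
    have hpc : p = IsLocalRing.closedPoint (S.presheaf.stalk ξ) := by
      apply PrimeSpectrum.ext
      exact IsLocalRing.eq_maximalIdeal hmax
    have : η = ξ := by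
      rw [← hp, hpc]
      exact Scheme.fromSpecStalk_closedPoint
    rw [← this]
    exact hηs

/-- A point of `U ×_S Spec O_ξ` with values in the function field. -/
theorem exists_fieldPoint {S : Scheme.{u}} [IsIntegral S] (U : S.Opens) (ξ : S)
    (hN : Pi1.IsNormalScheme (Spec (S.presheaf.stalk ξ)))
    (a : Spec (S.functionField) ⟶ (U : Scheme.{u}))
    (ha : a ≫ U.ι = Spec.map (S.presheaf.stalkSpecializes (genericPoint_specializes ξ)) ≫
      S.fromSpecStalk ξ) :
    ∃ b : Spec (S.functionField) ⟶ pullback U.ι (S.fromSpecStalk ξ),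
      b ≫ pullback.fst U.ι (S.fromSpecStalk ξ) = a ∧
      b ≫ pullback.snd U.ι (S.fromSpecStalk ξ) =
        Spec.map (S.presheaf.stalkSpecializes (genericPoint_specializes ξ)) ∧
      (FEt.restrict b).Full ∧ (FEt.restrict b).Faithful := by
  let b : Spec (S.functionField) ⟶ pullback U.ι (S.fromSpecStalk ξ) := pullback.lift a _ ha
  have hb₁ : b ≫ pullback.fst U.ι (S.fromSpecStalk ξ) = a := pullback.lift_fst _ _ _
  have hb₂ : b ≫ pullback.snd U.ι (S.fromSpecStalk ξ) =
        Spec.map (S.presheaf.stalkSpecializes (genericPoint_specializes ξ)) := pullback.lift_snd _ _ _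
  refine ⟨b, hb₁, hb₂, ?_⟩
  have hoi : IsOpenImmersion (pullback.snd U.ι (S.fromSpecStalk ξ)) := inferInstance
  have hne : Nonempty (Spec (S.functionField)) := inferInstance
  have hne' : Nonempty ↥(pullback U.ι (S.fromSpecStalk ξ)) := hne.map b
  have hdom : IsDomain (S.presheaf.stalk ξ) := inferInstance
  have hint₀ : IsIntegral (Spec (S.presheaf.stalk ξ)) := inferInstance
  have hint : IsIntegral (pullback U.ι (S.fromSpecStalk ξ)) :=
    isIntegral_of_isOpenImmersion (pullback.snd U.ι (S.fromSpecStalk ξ))
  have hpre₁ : IsPreimmersion (b ≫ pullback.snd U.ι (S.fromSpecStalk ξ)) := by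
    rw [hb₂]
    exact IsPreimmersion.of_isLocalization (R := S.presheaf.stalk ξ) (S := S.functionField)
      (nonZeroDivisors (S.presheaf.stalk ξ))
  have hpre : IsPreimmersion b :=
    IsPreimmersion.of_comp b (pullback.snd U.ι (S.fromSpecStalk ξ))
  have hrange := NormalBase.range_specMap (S.presheaf.stalk ξ) (S.functionField)
    (IsFractionRing.injective (S.presheaf.stalk ξ) (S.functionField))
  have hpt (y : Spec (S.functionField)) : b y = genericPoint ↥(pullback U.ι (S.fromSpecStalk ξ)) := by
    apply (pullback.snd U.ι (S.fromSpecStalk ξ)).isOpenEmbedding.injective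
    rw [genericPoint_eq_of_isOpenImmersion, ← Scheme.Hom.comp_apply, hb₂]
    have : (Spec.map (CommRingCat.ofHom (algebraMap (S.presheaf.stalk ξ) (S.functionField)))) y ∈
        ({genericPoint (Spec (CommRingCat.of (S.presheaf.stalk ξ)))} : Set _) := by
      rw [← hrange]
      exact ⟨y, rfl⟩
    exact this
  apply ff_of_fieldPoint (isNormalScheme_of_isOpenImmersion
    (pullback.snd U.ι (S.fromSpecStalk ξ)) hN) b
  ext x
  constructor
  · rintro ⟨y, rfl⟩
    exact hpt y
  · rintro rfl
    obtain ⟨y⟩ := hne
    exact ⟨y, hpt y⟩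

/-- (FEX) extension of a finite étale cover across an irreducible closed subset -/
theorem fex {S : Scheme.{u}} [IsLocallyNoetherian S] [IsIntegral S]
    (hreg : ∀ x : S, IsRegularLocalRing (S.presheaf.stalk x)) (U : S.Opens)
    (hU : (U : Set S).Nonempty) (hD : IsIrreducible ((U : Set S)ᶜ)) (s : S) (hs : s ∉ U)
    (R : Type u) [CommRing R] [IsLocalRing R] [Algebra (S.presheaf.stalk s) R]
    [IsLocalHom (algebraMap (S.presheaf.stalk s) R)]
    [Hensel.IsStrictHenselization (S.presheaf.stalk s) R]
    (L : Type u) [Field L] [Algebra R L] [IsFractionRing R L] (E : FEt.Cat (U : Scheme.{u}))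
    (g : Spec (CommRingCat.of L) ⟶ (U : Scheme.{u}))
    (hg : g ≫ U.ι = Spec.map (CommRingCat.ofHom (algebraMap R L)) ≫
      Spec.map (CommRingCat.ofHom (algebraMap (S.presheaf.stalk s) R)) ≫ S.fromSpecStalk s)
    (hE : Pi1.IsSplit ((FEt.restrict g).obj E)) :
    ∃ E' : FEt.Cat S, Nonempty ((FEt.restrict U.ι).obj E' ≅ E) := by
  have hnorm (x : S) : Pi1.IsNormalScheme (Spec (S.presheaf.stalk x)) := by
    have := hreg x
    have h1 : IsIntegrallyClosed (S.presheaf.stalk x) :=
      Groth.Agent.CurvesC.RegNormal.isIntegrallyClosed (S.presheaf.stalk x)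
    exact NormalBase.isNormalScheme_spec (S.presheaf.stalk x)
  have hgen : genericPoint S ∈ U :=
    ((genericPoint_spec S).mem_open_set_iff U.isOpen).mpr (by simpa using hU)
  have hr : Set.range (S.fromSpecStalk (genericPoint S)) ⊆ Set.range U.ι := by
    rw [Scheme.range_fromSpecStalk, Scheme.Opens.range_ι]
    intro y hy
    have : y = genericPoint S := (Specializes.antisymm hy (genericPoint_specializes y)).eq
    rw [this]
    exact hgen
  let a : Spec (S.functionField) ⟶ (U : Scheme.{u}) :=
    IsOpenImmersion.lift U.ι (S.fromSpecStalk (genericPoint S)) hr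
  have ha₀ : a ≫ U.ι = S.fromSpecStalk (genericPoint S) := IsOpenImmersion.lift_fac _ _ _
  have ha (ξ : S) : a ≫ U.ι = Spec.map (S.presheaf.stalkSpecializes (genericPoint_specializes ξ)) ≫
      S.fromSpecStalk ξ := by
    rw [ha₀, Scheme.SpecMap_stalkSpecializes_fromSpecStalk]
  -- the algebra
  have hreg_s := hreg s
  have hICs : IsIntegrallyClosed (S.presheaf.stalk s) :=
    Groth.Agent.CurvesC.RegNormal.isIntegrallyClosed (S.presheaf.stalk s)
  have hflat : Module.Flat (S.presheaf.stalk s) R :=
    Groth.Agent.Pi1C.IndEtaleWE.flat_of_lazard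
      (Groth.Agent.Pi1C.StrictHensWE.lazard_of_isStrictHenselization (S.presheaf.stalk s) R)
  have hff : Module.FaithfullyFlat (S.presheaf.stalk s) R :=
    Module.FaithfullyFlat.of_flat_of_isLocalHom
  have hinj₁ : Function.Injective (algebraMap (S.presheaf.stalk s) R) :=
    FaithfulSMul.algebraMap_injective _ _
  let _ : Algebra (S.presheaf.stalk s) L :=
    ((algebraMap R L).comp (algebraMap (S.presheaf.stalk s) R)).toAlgebra
  have hst₁ : IsScalarTower (S.presheaf.stalk s) R L := IsScalarTower.of_algebraMap_eq' rfl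
  have hinj : Function.Injective (algebraMap (S.presheaf.stalk s) L) :=
    (IsFractionRing.injective R L).comp hinj₁
  let _ : Algebra (S.functionField) L :=
    (IsFractionRing.lift (A := S.presheaf.stalk s) (K := S.functionField)
      (g := algebraMap (S.presheaf.stalk s) L) hinj).toAlgebra
  have hst₂ : IsScalarTower (S.presheaf.stalk s) (S.functionField) L :=
    IsScalarTower.of_algebraMap_eq (fun x =>
      (IsFractionRing.lift_algebraMap (K := S.functionField) hinj x).symm)
  have hga : Spec.map (CommRingCat.ofHom (algebraMap (S.functionField) L)) ≫ a = g := by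
    rw [← cancel_mono U.ι, Category.assoc, ha s, hg]
    have h1 : CommRingCat.ofHom (algebraMap (S.presheaf.stalk s) R) ≫
        CommRingCat.ofHom (algebraMap R L) =
        S.presheaf.stalkSpecializes (genericPoint_specializes s) ≫
          CommRingCat.ofHom (algebraMap (S.functionField) L) := by
      ext x
      exact (IsFractionRing.lift_algebraMap (K := S.functionField) hinj x).symm
    have h2 := congr(Spec.map $h1)
    rw [Spec.map_comp, Spec.map_comp] at h2
    exact (Category.assoc _ _ _).symm.trans ((congrArg (· ≫ S.fromSpecStalk s) h2.symm).trans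
      (Category.assoc _ _ _))
  let V : FEt.Cat (Spec (CommRingCat.of (S.functionField))) := (FEt.restrict a).obj E
  have hV : Pi1.IsSplit ((FEt.restrict (Spec.map (CommRingCat.ofHom
      (algebraMap (S.functionField) L)))).obj V) :=
    isSplit_of_iso ((restrictCongr hga.symm).app E ≪≫
      (restrictComp (Spec.map (CommRingCat.ofHom (algebraMap (S.functionField) L))) a).app E) hE
  obtain ⟨Y, ⟨eY⟩⟩ := Groth.Agent.S1143.result (S.presheaf.stalk s) R (S.functionField) L V hV
  refine Groth.Agent.S0287.result U (U.isOpen.dense hU) E (fun x _ => hreg x) ?_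
  intro ξ hξ hdim
  have hspec : ξ ⤳ s := specializes_of_dim_one U hU hD s ξ hs hξ hdim
  obtain ⟨b, hb₁, hb₂, hfull, hfaith⟩ := exists_fieldPoint U ξ (hnorm ξ) a (ha ξ)
  refine ⟨(FEt.restrict (Spec.map (S.presheaf.stalkSpecializes hspec))).obj Y, ⟨?_⟩⟩
  apply (FEt.restrict b).preimageIso
  have h3 : (b ≫ pullback.snd U.ι (S.fromSpecStalk ξ)) ≫
      Spec.map (S.presheaf.stalkSpecializes hspec) =
      Spec.map (CommRingCat.ofHom (algebraMap (S.presheaf.stalk s) (S.functionField))) := by
    rw [hb₂, ← Spec.map_comp, TopCat.Presheaf.stalkSpecializes_comp]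
    rfl
  exact ((restrictComp b (pullback.snd U.ι (S.fromSpecStalk ξ))).app _).symm ≪≫
    ((restrictComp (b ≫ pullback.snd U.ι (S.fromSpecStalk ξ))
      (Spec.map (S.presheaf.stalkSpecializes hspec))).app Y).symm ≪≫
    (restrictCongr h3).app Y ≪≫ eY ≪≫ (restrictCongr hb₁.symm).app E ≪≫
    (restrictComp b (pullback.fst U.ι (S.fromSpecStalk ξ))).app E

end Groth.Agent.Lefpen.H416.Fex
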