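import Groth.Prelude.Def_Pi1
import Groth.Prelude.Def_FEt
import Groth.Agent.Pi1.H384.SplitBasic
import Groth.Agent.S0294
import Mathlib.RingTheory.Etale.Field

/-!
# A finite étale cover with enough sections is split

* `isSplit_of_isSepClosed`: finite étale covers of the spectrum of a separably closed field are
  split.
* `exists_fac`: points of a finite étale cover over a separably closed point.
* `spl`: a finite étale cover of a connected scheme all of whose points over one given separably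
  closed point extend to sections is split.
-/

set_option autoImplicit false
universe u
open CategoryTheory CategoryTheory.Limits AlgebraicGeometry
open Groth.Agent.Pi1A.FEtAffine Groth.Agent.Pi1.H384.SplitCover Groth.Agent.Pi1.H384.SplitBasic

namespace Groth.Agent.Lefpen.H416.Spl

/-- `Spec (ι → A)` is a split cover of `Spec A`. -/
theorem isSplit_ofAlgebra_pi (A : Type u) [CommRing A] (ι : Type u) [Finite ι] :
    Pi1.IsSplit (ofAlgebra A (ι → A)) := by
  have hiso : IsIso (sigmaSpec fun _ : ι => CommRingCat.of A) := inferInstance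
  refine ⟨ι, inferInstance, (@asIso _ _ _ _ (sigmaSpec fun _ : ι => CommRingCat.of A) hiso).symm,
    fun i => ?_⟩
  change Sigma.ι (fun _ : ι => Spec (CommRingCat.of A)) i ≫
    sigmaSpec (fun _ : ι => CommRingCat.of A) ≫
      Spec.map (CommRingCat.ofHom (algebraMap A (ι → A))) = _
  rw [ι_sigmaSpec_assoc, ← Spec.map_comp, ← Spec.map_id]
  rfl

/-- Finite étale covers of the spectrum of a separably closed field are split. -/
theorem isSplit_of_isSepClosed {K : Type u} [Field K] [IsSepClosed K]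
    (T : FEt.Cat (Spec (CommRingCat.of K))) : Pi1.IsSplit T := by
  obtain ⟨B, _, _, _, _, ⟨e⟩⟩ := exists_iso_ofAlgebra T
  have hfin : Finite (PrimeSpectrum B) := by
    have : IsArtinianRing B := IsArtinianRing.of_finite K B
    infer_instance
  exact isSplit_of_iso ((isoOfAlgEquiv (Algebra.FormallyEtale.equivPiOfIsSepClosed K B)) ≪≫ e.symm)
    (isSplit_ofAlgebra_pi K (PrimeSpectrum B))

/-- Every point of a finite étale cover with values in a field extension of a separably closed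
field, lying over a point with values in the latter, is defined over it. -/
theorem exists_fac {W : Scheme.{u}} (E : FEt.Cat W) {Ω Ω' : Type u} [Field Ω] [IsSepClosed Ω]
    [Field Ω'] (τ : Spec (CommRingCat.of Ω) ⟶ W)
    (c : Spec (CommRingCat.of Ω') ⟶ Spec (CommRingCat.of Ω))
    (e' : Spec (CommRingCat.of Ω') ⟶ E.left) (he' : e' ≫ E.hom = c ≫ τ) :
    ∃ e : Spec (CommRingCat.of Ω) ⟶ E.left, e ≫ E.hom = τ ∧ c ≫ e = e' := by
  obtain ⟨ι, hι, t, ht⟩ := isSplit_of_isSepClosed ((FEt.restrict τ).obj E)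
  have h1 : t.inv ≫ ((FEt.restrict τ).obj E).hom =
      Sigma.desc (fun _ : ι => 𝟙 (Spec (CommRingCat.of Ω))) := by
    apply Sigma.hom_ext
    intro i
    rw [ht i, Sigma.ι_desc]
  let e₁ : Spec (CommRingCat.of Ω') ⟶ ((FEt.restrict τ).obj E).left :=
    (isPullback τ E).lift e' c he'
  have he₁ : e₁ ≫ ((FEt.restrict τ).obj E).hom = c := (isPullback τ E).lift_snd _ _ _
  have he₂ : e₁ ≫ proj τ E = e' := (isPullback τ E).lift_fst _ _ _
  obtain ⟨i, hi⟩ := exists_sheet c (e₁ ≫ t.hom) (by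
    rw [← h1, Category.assoc, Iso.hom_inv_id_assoc, he₁])
  have h2 : e₁ = (c ≫ Sigma.ι (fun _ : ι => Spec (CommRingCat.of Ω)) i) ≫ t.inv := by
    rw [← hi, Category.assoc, Iso.hom_inv_id, Category.comp_id]
  refine ⟨Sigma.ι (fun _ : ι => Spec (CommRingCat.of Ω)) i ≫ t.inv ≫ proj τ E, ?_, ?_⟩
  · have h3 : proj τ E ≫ E.hom = ((FEt.restrict τ).obj E).hom ≫ τ := (isPullback τ E).w
    have h4 := ht i
    calc (Sigma.ι (fun _ : ι => Spec (CommRingCat.of Ω)) i ≫ t.inv ≫ proj τ E) ≫ E.hom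
        = Sigma.ι (fun _ : ι => Spec (CommRingCat.of Ω)) i ≫ t.inv ≫ proj τ E ≫ E.hom := by
          simp only [Category.assoc]
      _ = Sigma.ι (fun _ : ι => Spec (CommRingCat.of Ω)) i ≫ t.inv ≫
            ((FEt.restrict τ).obj E).hom ≫ τ := by rw [h3]
      _ = (Sigma.ι (fun _ : ι => Spec (CommRingCat.of Ω)) i ≫ t.inv ≫
            ((FEt.restrict τ).obj E).hom) ≫ τ := by simp only [Category.assoc]
      _ = τ := by rw [h4]; exact Category.id_comp τ
  · rw [← he₂, h2]
    simp only [Category.assoc]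

/-- (SPL) a finite étale cover of a connected scheme all of whose points over one given separably
closed point extend to sections is split. -/
theorem spl {W : Scheme.{u}} [ConnectedSpace W] (E : FEt.Cat W) {Ω : Type u} [Field Ω] [IsSepClosed Ω]
    (τ : Spec (CommRingCat.of Ω) ⟶ W)
    (h : ∀ e : Spec (CommRingCat.of Ω) ⟶ E.left, e ≫ E.hom = τ →
      ∃ s : W ⟶ E.left, s ≫ E.hom = 𝟙 W ∧ τ ≫ s = e) :
    Pi1.IsSplit E := by
  let c : Spec (CommRingCat.of (AlgebraicClosure Ω)) ⟶ Spec (CommRingCat.of Ω) :=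
    Spec.map (CommRingCat.ofHom (algebraMap Ω (AlgebraicClosure Ω)))
  let ι : Type u := FEt.fiberObj (c ≫ τ) E
  have hfin : Finite ι := Groth.Agent.S0294.result (c ≫ τ) E
  have hsec (x : ι) : ∃ s : W ⟶ E.left, s ≫ E.hom = 𝟙 W ∧ (c ≫ τ) ≫ s = x.1 := by
    obtain ⟨e, he, hce⟩ := exists_fac E τ c x.1 x.2
    obtain ⟨s, hs, hτs⟩ := h e he
    exact ⟨s, hs, by rw [Category.assoc, hτs, hce]⟩
  choose sec hsec₁ hsec₂ using hsec
  let φ : trivialObj W ι ⟶ E :=
    MorphismProperty.Over.homMk (Sigma.desc sec) (by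
      apply Sigma.hom_ext
      intro f
      change Sigma.ι _ f ≫ Sigma.desc sec ≫ E.hom = Sigma.ι _ f ≫ Sigma.desc (fun _ => 𝟙 _)
      rw [Sigma.ι_desc_assoc, Sigma.ι_desc, hsec₁])
  have hφ : φ.left = Sigma.desc sec := rfl
  have hpt (x : ι) : ((c ≫ τ) ≫ Sigma.ι (fun _ : ι => W) x) ≫ Sigma.desc sec = x.1 := by
    rw [Category.assoc, Sigma.ι_desc, hsec₂]
  have hpt' (x : ι) : ((c ≫ τ) ≫ Sigma.ι (fun _ : ι => W) x) ≫
      Sigma.desc (fun _ : ι => 𝟙 W) = c ≫ τ := by
    rw [Category.assoc, Sigma.ι_desc, Category.comp_id]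
  have hiso : IsIso φ.left := by
    apply Groth.Agent.Pi1B.FEtGalois.isIso_of_bijective_fibre (c ≫ τ) φ
    constructor
    · rintro ⟨s, hs⟩ ⟨s', hs'⟩ hss
      obtain ⟨f, hf⟩ := exists_sheet (c ≫ τ) s hs
      obtain ⟨f', hf'⟩ := exists_sheet (c ≫ τ) s' hs'
      have h1 : s ≫ φ.left = s' ≫ φ.left := congrArg Subtype.val hss
      have h2 : f.1 = f'.1 :=
        (hpt f).symm.trans (((congrArg (· ≫ Sigma.desc sec) hf).symm.trans h1).trans
          ((congrArg (· ≫ Sigma.desc sec) hf').trans (hpt f')))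
      have h4 : f = f' := Subtype.ext h2
      apply Subtype.ext
      change s = s'
      rw [hf, hf', h4]
    · intro t
      refine ⟨⟨(c ≫ τ) ≫ Sigma.ι (fun _ : ι => W) t, ?_⟩, ?_⟩
      · exact hpt' t
      · apply Subtype.ext
        exact hpt t
  refine ⟨ι, hfin, (asIso φ.left).symm, fun f => ?_⟩
  change Sigma.ι _ f ≫ φ.left ≫ E.hom = 𝟙 _
  rw [hφ, Sigma.ι_desc_assoc]
  exact hsec₁ f

end Groth.Agent.Lefpen.H416.Spl
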