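import Groth.Prelude.Def_Pi1
import Groth.Prelude.Def_FEt
import Groth.Agent.Lefpen.H416.NormalBase
import Groth.Agent.Lefpen.H416.Spl
import Mathlib.RingTheory.Polynomial.UniqueFactorization
import Mathlib.Algebra.Polynomial.Laurent

/-!
# Finite étale covers of affine space invariant under generic scaling are split
-/

set_option autoImplicit false
universe v u
open CategoryTheory CategoryTheory.Limits AlgebraicGeometry
open Groth.Agent.Pi1A.FEtAffine Groth.Agent.Pi1.H384.SplitBasic

namespace Groth.Agent.Lefpen.H416.Scal

/-- Restriction along a composition of ring maps. -/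
noncomputable def restrictSpecComp {A B C : Type u} [CommRing A] [CommRing B] [CommRing C]
    (f : A →+* B) (g : B →+* C) (E : FEt.Cat (Spec (CommRingCat.of A))) :
    (FEt.restrict (Spec.map (CommRingCat.ofHom (g.comp f)))).obj E ≅
      (FEt.restrict (Spec.map (CommRingCat.ofHom g))).obj
        ((FEt.restrict (Spec.map (CommRingCat.ofHom f))).obj E) :=
  (restrictCongr (show Spec.map (CommRingCat.ofHom (g.comp f)) =
      Spec.map (CommRingCat.ofHom g) ≫ Spec.map (CommRingCat.ofHom f) by
        rw [CommRingCat.ofHom_comp, Spec.map_comp])).app E ≪≫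
    (restrictComp (Spec.map (CommRingCat.ofHom g)) (Spec.map (CommRingCat.ofHom f))).app E

/-- The abstract scaling lemma: `m : A → A[X]` is generically isomorphic to the constant family on
`E` and factors through the algebraically closed field `k` at `X = 0`. -/
theorem scal_of_eval {k : Type u} [Field k] [IsSepClosed k] {A : Type u} [CommRing A] [IsDomain A]
    [IsIntegrallyClosed (Polynomial A)] (m : A →+* Polynomial A) (c : k →+* A) (z : A →+* k)
    (hm : (Polynomial.evalRingHom (0 : A)).comp m = c.comp z)
    {K : Type u} [Field K] [Algebra (Polynomial A) K] [IsFractionRing (Polynomial A) K]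
    (E : FEt.Cat (Spec (CommRingCat.of A)))
    (h : Nonempty
      ((FEt.restrict (Spec.map (CommRingCat.ofHom ((algebraMap (Polynomial A) K).comp m)))).obj E ≅
        (FEt.restrict (Spec.map (CommRingCat.ofHom
          ((algebraMap (Polynomial A) K).comp Polynomial.C)))).obj E)) :
    Pi1.IsSplit E := by
  obtain ⟨e⟩ := h
  obtain ⟨hfull, hfaith⟩ := NormalBase.ff_fractionRing (Polynomial A) K
  let e₁ := (restrictSpecComp m (algebraMap (Polynomial A) K) E).symm ≪≫ e ≪≫
      restrictSpecComp Polynomial.C _ E
  let e₂ : (FEt.restrict (Spec.map (CommRingCat.ofHom m))).obj E ≅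
    (FEt.restrict (Spec.map (CommRingCat.ofHom Polynomial.C))).obj E :=
      (FEt.restrict (Spec.map (CommRingCat.ofHom (algebraMap (Polynomial A) K)))).preimageIso e₁
  let ev : Polynomial A →+* A := Polynomial.evalRingHom 0
  let e₃ := restrictSpecComp m ev E ≪≫
    (FEt.restrict (Spec.map (CommRingCat.ofHom ev))).mapIso e₂ ≪≫
      (restrictSpecComp Polynomial.C ev E).symm
  have h1 : ev.comp Polynomial.C = RingHom.id _ := by
    apply RingHom.ext
    intro x
    simp [ev]
  let e₄ : (FEt.restrict (Spec.map (CommRingCat.ofHom (ev.comp Polynomial.C)))).obj E ≅ E :=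
    (restrictCongr (show Spec.map (CommRingCat.ofHom (ev.comp Polynomial.C)) = 𝟙 _ by
      rw [h1, CommRingCat.ofHom_id, Spec.map_id])).app E ≪≫ (restrictId _).app E
  let e₅ : (FEt.restrict (Spec.map (CommRingCat.ofHom (ev.comp m)))).obj E ≅
      (FEt.restrict (Spec.map (CommRingCat.ofHom c))).obj
        ((FEt.restrict (Spec.map (CommRingCat.ofHom z))).obj E) :=
    (restrictCongr (by rw [hm])).app E ≪≫ restrictSpecComp _ _ E
  refine isSplit_of_iso (e₅.symm ≪≫ e₃ ≪≫ e₄) ?_
  apply isSplit_restrict
  exact Spl.isSplit_of_isSepClosed _

/-- A fraction field of a localization is a fraction field. -/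
theorem isFractionRing_of_localization {R S K : Type*} [CommRing R] [CommRing S] [Algebra R S]
    [Field K] [Algebra R K] [Algebra S K] [IsScalarTower R S K] (M : Submonoid R)
    (hM : M ≤ nonZeroDivisors R) [IsLocalization M S] [IsFractionRing S K] : IsFractionRing R K := by
  have hinj : Function.Injective (algebraMap R K) := by
    rw [IsScalarTower.algebraMap_eq R S K]
    exact (IsFractionRing.injective S K).comp (IsLocalization.injective S hM)
  have hf : FaithfulSMul R K := (faithfulSMul_iff_algebraMap_injective R K).mpr hinj
  apply IsFractionRing.of_field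
  intro z
  obtain ⟨a, b, -, rfl⟩ := IsFractionRing.div_surjective S z
  obtain ⟨⟨x, s⟩, hx⟩ := IsLocalization.surj M a
  obtain ⟨⟨y, t⟩, hy⟩ := IsLocalization.surj M b
  have hs : algebraMap R K s ≠ 0 := by
    rw [IsScalarTower.algebraMap_apply R S K]
    exact ((IsLocalization.map_units S s).map (algebraMap S K)).ne_zero
  have ht : algebraMap R K t ≠ 0 := by
    rw [IsScalarTower.algebraMap_apply R S K]
    exact ((IsLocalization.map_units S t).map (algebraMap S K)).ne_zero
  have ha : algebraMap S K a = algebraMap R K x / algebraMap R K s := by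
    rw [eq_div_iff hs, IsScalarTower.algebraMap_apply R S K, ← map_mul, hx,
      ← IsScalarTower.algebraMap_apply]
  have hb : algebraMap S K b = algebraMap R K y / algebraMap R K t := by
    rw [eq_div_iff ht, IsScalarTower.algebraMap_apply R S K, ← map_mul, hy,
      ← IsScalarTower.algebraMap_apply]
  refine ⟨x * t, s * y, ?_⟩
  rw [ha, hb, map_mul, map_mul, div_div_div_eq]

/-- The scaling map `X_i ↦ X X_i`. -/
noncomputable def scl (k : Type u) [CommRing k] (σ : Type v) :
    MvPolynomial σ k →+* Polynomial (MvPolynomial σ k) :=
  MvPolynomial.eval₂Hom (Polynomial.C.comp MvPolynomial.C)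
    (fun i : σ => Polynomial.X * Polynomial.C (MvPolynomial.X i))

theorem eval_scl (k : Type u) [CommRing k] (σ : Type v) :
    (Polynomial.evalRingHom (0 : MvPolynomial σ k)).comp (scl k σ) =
      (MvPolynomial.C : k →+* MvPolynomial σ k).comp
        (MvPolynomial.eval₂Hom (RingHom.id k) (fun _ => 0)) := by
  apply MvPolynomial.ringHom_ext
  · intro r
    simp [scl]
  · intro i
    simp [scl]

/-- (SCAL), variables indexed by `σ : Type`, any model of the fraction field. -/
theorem scal_zero (k : Type u) [Field k] [IsAlgClosed k] (σ : Type) [Finite σ]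
    {K : Type u} [Field K] [Algebra (Polynomial (MvPolynomial σ k)) K]
    [IsFractionRing (Polynomial (MvPolynomial σ k)) K]
    (E : FEt.Cat (Spec (CommRingCat.of (MvPolynomial σ k))))
    (h : Nonempty
      ((FEt.restrict (Spec.map (CommRingCat.ofHom
          ((algebraMap (Polynomial (MvPolynomial σ k)) K).comp
            (MvPolynomial.eval₂Hom (Polynomial.C.comp MvPolynomial.C)
              (fun i : σ => Polynomial.X * Polynomial.C (MvPolynomial.X i))))))).obj E ≅
        (FEt.restrict (Spec.map (CommRingCat.ofHom
          ((algebraMap (Polynomial (MvPolynomial σ k)) K).comp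
            Polynomial.C)))).obj E)) :
    Pi1.IsSplit E :=
  have hIC : IsIntegrallyClosed (Polynomial (MvPolynomial σ k)) := inferInstance
  scal_of_eval (scl k σ) MvPolynomial.C _ (eval_scl k σ) E h

/-- (SCAL) in Laurent form, variables indexed by `σ : Type`, any model of the fraction field. -/
theorem scal_laurent (k : Type u) [Field k] [IsAlgClosed k] (σ : Type) [Finite σ]
    {K : Type u} [Field K] [Algebra (LaurentPolynomial (MvPolynomial σ k)) K]
    [IsFractionRing (LaurentPolynomial (MvPolynomial σ k)) K]
    (E : FEt.Cat (Spec (CommRingCat.of (MvPolynomial σ k))))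
    (h : Nonempty
      ((FEt.restrict (Spec.map (CommRingCat.ofHom
          ((algebraMap (LaurentPolynomial (MvPolynomial σ k)) K).comp
            (MvPolynomial.eval₂Hom (LaurentPolynomial.C.comp MvPolynomial.C)
              (fun i : σ => LaurentPolynomial.T 1 *
                LaurentPolynomial.C (MvPolynomial.X i))))))).obj E ≅
        (FEt.restrict (Spec.map (CommRingCat.ofHom
          ((algebraMap (LaurentPolynomial (MvPolynomial σ k)) K).comp
            LaurentPolynomial.C)))).obj E)) :
    Pi1.IsSplit E := by
  let B := MvPolynomial σ k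
  let φ : Polynomial B →+* K :=
    (algebraMap (LaurentPolynomial B) K).comp (Polynomial.toLaurent (R := B))
  let _ : Algebra (Polynomial B) K := φ.toAlgebra
  have hst : IsScalarTower (Polynomial B) (LaurentPolynomial B) K :=
    IsScalarTower.of_algebraMap_eq (fun x => rfl)
  have hfr : IsFractionRing (Polynomial B) K := by
    have h1 : IsLocalization (Submonoid.powers (Polynomial.X : Polynomial B))
      (LaurentPolynomial B) := inferInstance
    exact isFractionRing_of_localization (S := LaurentPolynomial B)
      (Submonoid.powers (Polynomial.X : Polynomial B))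
      (powers_le_nonZeroDivisors_of_noZeroDivisors Polynomial.X_ne_zero)
  have e1 : (algebraMap (Polynomial B) K).comp (scl k σ) =
      (algebraMap (LaurentPolynomial B) K).comp
            (MvPolynomial.eval₂Hom (LaurentPolynomial.C.comp MvPolynomial.C)
              (fun i : σ => LaurentPolynomial.T 1 *
                LaurentPolynomial.C (MvPolynomial.X i))) := by
    apply MvPolynomial.ringHom_ext
    · intro r
      simp [scl, RingHom.algebraMap_toAlgebra, φ]
    · intro i
      simp [scl, RingHom.algebraMap_toAlgebra, φ]
  have e2 : (algebraMap (Polynomial B) K).comp Polynomial.C =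
      (algebraMap (LaurentPolynomial B) K).comp LaurentPolynomial.C := by
    apply RingHom.ext
    intro r
    simp [RingHom.algebraMap_toAlgebra, φ]
  apply scal_zero k σ (K := K) E
  change Nonempty ((FEt.restrict (Spec.map (CommRingCat.ofHom
    ((algebraMap (Polynomial B) K).comp (scl k σ))))).obj E ≅
      (FEt.restrict (Spec.map (CommRingCat.ofHom
        ((algebraMap (Polynomial B) K).comp Polynomial.C)))).obj E)
  rw [e1, e2]
  exact h

/-- (SCAL) A finite étale cover of affine space over an algebraically closed field which is
generically invariant under scaling is split. -/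
theorem scal (k : Type u) [Field k] [IsAlgClosed k] (σ : Type u) [Finite σ]
    (E : FEt.Cat (Spec (CommRingCat.of (MvPolynomial σ k))))
    (h : Nonempty
      ((FEt.restrict (Spec.map (CommRingCat.ofHom
          ((algebraMap (Polynomial (MvPolynomial σ k)) (FractionRing (Polynomial (MvPolynomial σ k)))).comp
            (MvPolynomial.eval₂Hom (Polynomial.C.comp MvPolynomial.C)
              (fun i : σ => Polynomial.X * Polynomial.C (MvPolynomial.X i))))))).obj E ≅
        (FEt.restrict (Spec.map (CommRingCat.ofHom
          ((algebraMap (Polynomial (MvPolynomial σ k)) (FractionRing (Polynomial (MvPolynomial σ k)))).comp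
            Polynomial.C)))).obj E)) :
    Pi1.IsSplit E :=
  have hIC : IsIntegrallyClosed (Polynomial (MvPolynomial σ k)) := inferInstance
  scal_of_eval (scl k σ) MvPolynomial.C _ (eval_scl k σ) E h

end Groth.Agent.Lefpen.H416.Scal
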