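import Groth.Agent.Lefpen.H416.NbCore
import Groth.Agent.Lefpen.H119.ThetaBC
import Groth.Agent.Etrest.ConstBasic

/-!
# Classes over strictly henselian local `S`-schemes and étale neighbourhoods, for proper `g : Y ⟶ S`

* `nbSurj`, `nbInj`: for `g` proper and `F` torsion;
* `nbSurj_const`, `nbInj_const`: for `F = Z/N`, `N > 0`.
-/

set_option autoImplicit false
universe u
open CategoryTheory CategoryTheory.Limits AlgebraicGeometry Opposite Abelian
open scoped Groth.Agent.Etcore.EtInst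
open Groth.Agent.Etcore.EtInst

namespace Groth.Agent.Lefpen.H416.Nb

open Groth.Agent.Lefpen.H712.HT Groth.Agent.Lefpen.H916.ThetaDef Groth.Agent.Lefpen.H416.NbCore
open Groth.Agent.Lefpen.H119

variable {S Y : Scheme.{u}} (g : Y ⟶ S) [IsProper g]

theorem hC (F : EtCoh.Ab Y) (hF : EtCoh.IsTorsion F) (q : ℕ) : HC g F q :=
  fun _ _ _ _ _ _ h => ThetaBC.rs_bijective_residue g hF h q

theorem hK (F : EtCoh.Ab Y) (hF : EtCoh.IsTorsion F) (q : ℕ) : HK g F q :=
  fun _ _ _ _ _ _ φ _ _ h => ThetaBC.rs_bijective_field g hF φ h q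

theorem nbSurj (F : EtCoh.Ab Y) (hF : EtCoh.IsTorsion F) (q : ℕ) : NbSurj g F q :=
  nbSurj_of (hC g F hF q) (hK g F hF q)

theorem nbInj (F : EtCoh.Ab Y) (hF : EtCoh.IsTorsion F) (q : ℕ) : NbInj g F q :=
  nbInj_of (hC g F hF q) (hK g F hF q)

theorem isTorsion_const (X : Scheme.{u}) (n : ℕ) (hn : 0 < n) :
    EtCoh.IsTorsion (EtCoh.const X (ZMod n)) :=
  Etrest.ConstBasic.isTorsion_of_killedBy hn
    (Etrest.ConstBasic.killedBy_const X (ZMod n) n fun m => by
      rw [nsmul_eq_mul, ZMod.natCast_self, zero_mul])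

theorem nbSurj_const (N : ℕ) (hN : 0 < N) (q : ℕ) : NbSurj g (EtCoh.const Y (ZMod N)) q :=
  nbSurj g _ (isTorsion_const Y N hN) q

theorem nbInj_const (N : ℕ) (hN : 0 < N) (q : ℕ) : NbInj g (EtCoh.const Y (ZMod N)) q :=
  nbInj g _ (isTorsion_const Y N hN) q

end Groth.Agent.Lefpen.H416.Nb
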