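import Groth.Prelude.Def_Pi1
import Groth.Prelude.Def_FEt
import Groth.Agent.Pi1B.FEtPreGalois

/-!
# A section of a finite étale cover lying in a subcover at one point lies in it
-/

set_option autoImplicit false
universe u
open CategoryTheory CategoryTheory.Limits AlgebraicGeometry

namespace Groth.Agent.Lefpen.H416.Sub

/-- (SUB) a section of `E` lying in the subcover `E'` at one geometric point lies in it. -/
theorem sub {W : Scheme.{u}} [ConnectedSpace W] (E E' : FEt.Cat W) (j : E' ⟶ E) [Mono j.left]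
    {T : Scheme.{u}} [Nonempty T] (τ : T ⟶ W) (s : W ⟶ E.left) (hs : s ≫ E.hom = 𝟙 W)
    (e : T ⟶ E'.left) (he : e ≫ j.left = τ ≫ s) :
    ∃ s' : W ⟶ E'.left, s' ≫ j.left = s := by
  have hf : IsFinite j.left := (Groth.Agent.Pi1B.FEtPreGalois.prop_left j).1
  have het : Etale j.left := (Groth.Agent.Pi1B.FEtPreGalois.prop_left j).2
  have ho : IsOpenImmersion j.left := IsOpenImmersion.of_flat_of_mono j.left
  have hcl : IsClosed (Set.range j.left) := j.left.isClosedMap.isClosed_range
  have hop : IsOpen (Set.range j.left) := j.left.isOpenEmbedding.isOpen_range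
  have hclopen : IsClopen (s ⁻¹' (Set.range j.left)) :=
    IsClopen.preimage ⟨hcl, hop⟩ s.continuous
  have hne : (s ⁻¹' (Set.range j.left)).Nonempty := by
    obtain ⟨t⟩ : Nonempty T := inferInstance
    refine ⟨τ t, ?_⟩
    rw [Set.mem_preimage, ← Scheme.Hom.comp_apply, ← he, Scheme.Hom.comp_apply]
    exact ⟨_, rfl⟩
  have huniv := hclopen.eq_univ hne
  have hr : Set.range s ⊆ Set.range j.left := by
    rintro _ ⟨w, rfl⟩
    have : w ∈ s ⁻¹' (Set.range j.left) := huniv ▸ Set.mem_univ w
    exact this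
  exact ⟨IsOpenImmersion.lift j.left s hr, IsOpenImmersion.lift_fac _ _ _⟩

end Groth.Agent.Lefpen.H416.Sub
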