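import Groth.Agent.Lefpen.H916.ThetaDef
import Groth.Agent.Etcore.LimEt
import Groth.Agent.Etcore.LimBC1
import Groth.Agent.EtpbcB.StrictLoc
import Groth.Agent.Etbase.HensSection
import Mathlib.AlgebraicGeometry.Morphisms.FormallyUnramified

/-!
# Classes over strictly henselian local `S`-schemes and étale neighbourhoods

`g : Y ⟶ S` quasi-compact and quasi-separated, `F` on `Y`. Write `HT g F t q = H^q(Y ×_S T, F)`.

* `exists_rs_leg`, `exists_dies`: `HT` of the strict localization `Spec O^sh_ξ` is the colimit of the `HT` of the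
  étale neighbourhoods of `ξ`.
* `exists_lift`, `lift_ext`: points of étale schemes with values in strictly henselian local rings.
* `nbSurj_of`, `nbInj_of`: `NbSurj g F q` and `NbInj g F q`, if the restriction from a strictly henselian local
  `S`-scheme to its closed point is bijective on `HT` and `HT` is invariant under extensions of separably closed fields.
-/

set_option autoImplicit false
universe u
open CategoryTheory CategoryTheory.Limits AlgebraicGeometry Opposite Abelian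
open scoped Groth.Agent.Etcore.EtInst
open Groth.Agent.Etcore.EtInst

namespace Groth.Agent.Lefpen.H416.NbCore

open Groth.Agent.Lefpen.H712.HT Groth.Agent.Lefpen.H916.ThetaDef
open Groth.Agent.Etcore.HQ Groth.Agent.Etcore.PullCoh Groth.Agent.Etcore.HpullCalc Groth.Agent.Etcore
open Groth.Agent.Etcore.LimBC0 (mB mB_fst mB_hom mB_map)
open Groth.Agent.EtpbcB.StrictLoc (Osh toBase DX coneX isLimitConeX legX legX_hom legX_pr legX_map Idx D lft lft_hom
  lft_map leg leg_hom leg_map pt pt_leg pt_toBase)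
open Groth.Agent.EtpbcB

attribute [local instance] pfl

section Abs

variable {X : Scheme.{u}} (F : EtCoh.Ab X) (q : ℕ)

theorem abs_surj {T V B : Scheme.{u}} {t : T ⟶ X} {v : V ⟶ X} {b : B ⟶ X} (l : T ⟶ V) (hl : l ≫ v = t)
    (m : V ⟶ B) (hm : m ≫ b = v) (k : T ⟶ B) (hk : k ≫ b = t) (e : l ≫ m = k)
    (x : HQ F t q) (y : HQ F b q) (h : hpVia k b t hk F q y = x) :
    res F l hl q (res F m hm q y) = x :=
  (res_res F m hm l hl k e hk q y).trans ((LimBC1.res_eq_hpVia F k hk q y).trans h)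

theorem abs_zero {T V B : Scheme.{u}} {t : T ⟶ X} {v : V ⟶ X} {b : B ⟶ X} (l : T ⟶ V) (hl : l ≫ v = t)
    (m : V ⟶ B) (hm : m ≫ b = v) (k : T ⟶ B) (hk : k ≫ b = t) (e : l ≫ m = k)
    (x : HQ F v q) (y : HQ F b q) (hxy : res F m hm q y = x) (h : res F l hl q x = 0) :
    hpVia k b t hk F q y = 0 :=
  (LimBC1.res_eq_hpVia F k hk q y).symm.trans ((res_res F m hm l hl k e hk q y).symm.trans
    ((congrArg (res F l hl q) hxy).trans h))

theorem abs_dies {V V' B B' : Scheme.{u}} {v : V ⟶ X} {v' : V' ⟶ X} {b : B ⟶ X} {b' : B' ⟶ X}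
    (m : V ⟶ B) (hm : m ≫ b = v) (m' : V' ⟶ B') (hm' : m' ≫ b' = v') (a : B' ⟶ B) (ha : a ≫ b = b')
    (c : V' ⟶ V) (hc : c ≫ v = v') (e : c ≫ m = m' ≫ a)
    (x : HQ F v q) (y : HQ F b q) (hxy : res F m hm q y = x)
    (h : hp a ((EtCoh.pull b).obj F) q y = 0) : res F c hc q x = 0 :=
  have h1 : (m' ≫ a) ≫ b = v' := by rw [Category.assoc, ha, hm']
  have h2 : res F a ha q y = 0 :=
    (res_apply F a ha q y).trans ((congrArg (HHmap (th a b b' ha F) q) h).trans
      (map_zero (HHmap (th a b b' ha F) q)))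
  (congrArg (res F c hc q) hxy).symm.trans ((res_res F m hm c hc (m' ≫ a) e h1 q y).trans
    ((res_res F a ha m' hm' (m' ≫ a) rfl h1 q y).symm.trans
      ((congrArg (res F m' hm' q) h2).trans (map_zero (res F m' hm' q)))))

end Abs

section Abs2

variable {S Y : Scheme.{u}} (g : Y ⟶ S) (F : EtCoh.Ab Y) (q : ℕ)

theorem abs_nbSurj {T V P R : Scheme.{u}} {t : T ⟶ S} {v : V ⟶ S} {p : P ⟶ S} {r : R ⟶ S}
    (l : T ⟶ V) (hl : l ≫ v = t) (c₀ : P ⟶ T) (hc₀ : c₀ ≫ t = p) (f : P ⟶ V) (hf : f ≫ v = p) (e : c₀ ≫ l = f)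
    (c : P ⟶ R) (hc : c ≫ r = p) (γ' : R ⟶ V) (h1 : γ' ≫ v = r) (h2 : c ≫ γ' = f)
    (hinj : Function.Injective (rs g F c hc q))
    (x : HT g F r q) (x' : HT g F t q) (y : HT g F v q) (hx' : rs g F c₀ hc₀ q x' = rs g F c hc q x)
    (hy : rs g F l hl q y = x') : rs g F γ' h1 q y = x :=
  hinj ((rs_rs g F γ' h1 c hc f h2 hf q y).trans ((rs_rs g F l hl c₀ hc₀ f e hf q y).symm.trans
    ((congrArg (rs g F c₀ hc₀ q) hy).trans hx')))

theorem abs_nbInj {T V W P R : Scheme.{u}} {t : T ⟶ S} {v : V ⟶ S} {w : W ⟶ S} {p : P ⟶ S} {r : R ⟶ S}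
    (l : T ⟶ W) (hl : l ≫ w = t) (c₀ : P ⟶ T) (hc₀ : c₀ ≫ t = p) (f : P ⟶ W) (hf : f ≫ w = p) (e : c₀ ≫ l = f)
    (c : P ⟶ R) (hc : c ≫ r = p) (γ' : R ⟶ V) (h1 : γ' ≫ v = r) (m : W ⟶ V) (hm : m ≫ v = w)
    (h2 : f ≫ m = c ≫ γ') (hinj : Function.Injective (rs g F c₀ hc₀ q))
    (y : HT g F v q) (hy : rs g F γ' h1 q y = 0) : rs g F l hl q (rs g F m hm q y) = 0 :=
  have h3 : (c ≫ γ') ≫ v = p := by rw [Category.assoc, h1, hc]
  hinj ((rs_rs g F l hl c₀ hc₀ f e hf q _).trans ((rs_rs g F m hm f hf (c ≫ γ') h2 h3 q y).trans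
    ((rs_rs g F γ' h1 c hc (c ≫ γ') rfl h3 q y).symm.trans
      ((congrArg (rs g F c hc q) hy).trans ((map_zero (rs g F c hc q)).trans (map_zero (rs g F c₀ hc₀ q)).symm)))))

theorem abs_comp_bij {A B C : Scheme.{u}} {a : A ⟶ S} {b : B ⟶ S} {c : C ⟶ S} (f : A ⟶ B) (hf : f ≫ b = a)
    (k : B ⟶ C) (hk : k ≫ c = b) (l : A ⟶ C) (hl : l ≫ c = a) (e : f ≫ k = l)
    (h1 : Function.Bijective (rs g F k hk q)) (h2 : Function.Bijective (rs g F f hf q)) :
    Function.Bijective (rs g F l hl q) := by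
  have h3 : ⇑(rs g F f hf q) ∘ ⇑(rs g F k hk q) = ⇑(rs g F l hl q) :=
    funext fun x => rs_rs g F k hk f hf l e hl q x
  exact h3 ▸ h2.comp h1

end Abs2

section LimAbs

variable {I : Type u} [SmallCategory I] [IsCofiltered I] {D : I ⥤ Scheme.{u}}
  [∀ {i j} (f : i ⟶ j), IsAffineHom (D.map f)] {T : Scheme.{u}} (p : ∀ i, T ⟶ D.obj i)
  (hp' : ∀ {x y : I} (f : x ⟶ y), p x ≫ D.map f = p y)
  (hc : IsLimit (LimDeg0.coneOf p hp')) {X : Scheme.{u}} (t : ∀ i, D.obj i ⟶ X)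
  (ht : ∀ {x y : I} (f : x ⟶ y), D.map f ≫ t y = t x) {s : T ⟶ X}
  (hs : ∀ j, p j ≫ t j = s) (F : EtCoh.Ab X) (q : ℕ)
  [∀ i, CompactSpace (D.obj i)] [∀ i, QuasiSeparatedSpace (D.obj i)]
  (V : I → Scheme.{u}) (v : ∀ i, V i ⟶ X) (m : ∀ i, V i ⟶ D.obj i) (hm : ∀ i, m i ≫ t i = v i)
  (l : ∀ i, T ⟶ V i) (hl : ∀ i, l i ≫ v i = s) (hlm : ∀ i, l i ≫ m i = p i)

include hc hs ht hm hlm in
theorem lim_surj (x : HQ F s q) : ∃ (i : I) (y : HQ F (v i) q), res F (l i) (hl i) q y = x := by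
  obtain ⟨j, x', hx'⟩ := LimEt.exists_hpVia_eq p hp' hc t ht hs F q x
  exact ⟨j, res F (m j) (hm j) q x', abs_surj F q _ _ _ _ _ (hs j) (hlm j) x x' hx'⟩

include hc hs ht hm hlm in
theorem lim_dies (hmi : ∀ i, IsIso (m i)) (c : ∀ {i j : I} (_ : i ⟶ j), V i ⟶ V j)
    (hcm : ∀ {i j : I} (a : i ⟶ j), c a ≫ m j = m i ≫ D.map a)
    (hcv : ∀ {i j : I} (a : i ⟶ j), c a ≫ v j = v i) (i : I) (y : HQ F (v i) q)
    (hy : res F (l i) (hl i) q y = 0) : ∃ (k : I) (a : k ⟶ i), res F (c a) (hcv a) q y = 0 := by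
  have := hmi i
  obtain ⟨x', hx'⟩ := (LimBC1.res_bijective F (m i) (hm i) q).2 y
  obtain ⟨k, a, hk⟩ := LimEt.exists_hp_eq_zero p hp' hc t ht hs F q i x'
    (abs_zero F q _ (hl i) _ (hm i) _ (hs i) (hlm i) y x' hx' hy)
  exact ⟨k, a, abs_dies F q _ _ (m k) (hm k) _ (ht a) _ (hcv a) (hcm a) y x' hx' hk⟩

end LimAbs

section Lim

variable {S Y : Scheme.{u}} (g : Y ⟶ S) (F : EtCoh.Ab Y) (q : ℕ)

theorem bm_mB {Z W : Scheme.{u}} {z : Z ⟶ S} (a : W ⟶ Z) {w : W ⟶ S} (h : a ≫ z = w)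
    {V : S.Etale} (b : Z ⟶ V.left) (hb : b ≫ V.hom = z) (b' : W ⟶ V.left) (hb' : b' ≫ V.hom = w)
    (e : a ≫ b = b') : bm g a h ≫ mB g b hb = mB g b' hb' :=
  LimBC0.mZ_mB g a h b hb b' hb' e

instance isIso_mB (V : S.Etale) : IsIso (mB g (𝟙 V.left) (Category.id_comp V.hom)) := by
  have h2 : IsPullback (RpushLoc.pr g V) (Big.bcFst g V) g V.hom :=
    (IsPullback.of_hasPullback V.hom g).flip
  have h3 : mB g (𝟙 V.left) (Category.id_comp V.hom) = h2.isoPullback.inv := by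
    apply Big.hom_ext_bc
    · rw [mB_fst, Category.comp_id]
      exact (h2.isoPullback_inv_snd).symm
    · rw [mB_hom]
      exact (h2.isoPullback_inv_fst).symm
  rw [h3]
  infer_instance

variable {Ω : Type u} [Field Ω] [IsSepClosed Ω] (ξ : Spec (CommRingCat.of Ω) ⟶ S)

/-- The square. -/
theorem sqT : IsPullback (pullback.fst g (toBase ξ)) (pullback.snd g (toBase ξ)) g (toBase ξ) :=
  IsPullback.of_hasPullback g (toBase ξ)

theorem mB_leg (i : Idx ξ) : mB g (leg ξ i) (leg_hom ξ i) = legX ξ g (sqT g ξ) i := by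
  apply (BCCalc.isPullback_pr g ((D ξ).obj i)).hom_ext
  · rw [legX_pr]
    exact mB_fst g (leg ξ i) (leg_hom ξ i)
  · rw [legX_hom]
    exact mB_hom g (leg ξ i) (leg_hom ξ i)

theorem ht' {i j : Idx ξ} (a : i ⟶ j) :
    (DX ξ g).map a ≫ RpushLoc.pr g ((D ξ).obj j) = RpushLoc.pr g ((D ξ).obj i) :=
  RpushLoc.mm_pr g ((D ξ).map a)

theorem bm_leg_mB (i : Idx ξ) : bm g (leg ξ i) (leg_hom ξ i) ≫ mB g (𝟙 _) (Category.id_comp _) =
    legX ξ g (sqT g ξ) i :=
  (bm_mB g (leg ξ i) (leg_hom ξ i) (𝟙 _) (Category.id_comp _) (leg ξ i) (leg_hom ξ i)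
    (Category.comp_id _)).trans (mB_leg g ξ i)

theorem bm_map_mB {k i : Idx ξ} (a : k ⟶ i) :
    bm g ((D ξ).map a).left (Over.w ((D ξ).map a).hom) ≫ mB g (𝟙 ((D ξ).obj i).left) (Category.id_comp _) =
      mB g (𝟙 ((D ξ).obj k).left) (Category.id_comp _) ≫ (DX ξ g).map a :=
  (bm_mB g _ _ (𝟙 _) (Category.id_comp _) ((D ξ).map a).left (Over.w ((D ξ).map a).hom)
    (Category.comp_id _)).trans
    (mB_map g ((D ξ).map a) (𝟙 _) (Category.id_comp _) ((D ξ).map a).left (Over.w ((D ξ).map a).hom)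
      (Category.id_comp _)).symm

variable [QuasiCompact g] [QuasiSeparated g]

/-- Classes over the strict localization come from étale neighbourhoods. -/
theorem exists_rs_leg (x : HT g F (toBase ξ) q) :
    ∃ (i : Idx ξ) (y : HT g F ((D ξ).obj i).hom q), rs g F (leg ξ i) (leg_hom ξ i) q y = x :=
  lim_surj (D := DX ξ g) (T := pullback g (toBase ξ)) (fun i => legX ξ g (sqT g ξ) i)
    (fun a => legX_map ξ g (sqT g ξ) a) (isLimitConeX ξ g (sqT g ξ))
    (fun j => RpushLoc.pr g ((D ξ).obj j)) (fun a => ht' g ξ a) (fun j => legX_hom ξ g (sqT g ξ) j) F q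
    (fun i => pullback g ((D ξ).obj i).hom) (fun i => pullback.fst g ((D ξ).obj i).hom)
    (fun i => mB g (𝟙 ((D ξ).obj i).left) (Category.id_comp _)) (fun i => mB_hom _ _ _)
    (fun i => bm g (leg ξ i) (leg_hom ξ i)) (fun i => bm_fst g (leg ξ i) (leg_hom ξ i))
    (fun i => bm_leg_mB g ξ i) x

/-- Classes over étale neighbourhoods dying on the strict localization die on smaller neighbourhoods. -/
theorem exists_dies (i : Idx ξ) (y : HT g F ((D ξ).obj i).hom q)
    (hy : rs g F (leg ξ i) (leg_hom ξ i) q y = 0) :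
    ∃ (k : Idx ξ) (a : k ⟶ i), rs g F ((D ξ).map a).left (Over.w ((D ξ).map a).hom) q y = 0 :=
  lim_dies (D := DX ξ g) (T := pullback g (toBase ξ)) (fun i => legX ξ g (sqT g ξ) i)
    (fun a => legX_map ξ g (sqT g ξ) a) (isLimitConeX ξ g (sqT g ξ))
    (fun j => RpushLoc.pr g ((D ξ).obj j)) (fun a => ht' g ξ a) (fun j => legX_hom ξ g (sqT g ξ) j) F q
    (fun i => pullback g ((D ξ).obj i).hom) (fun i => pullback.fst g ((D ξ).obj i).hom)
    (fun i => mB g (𝟙 ((D ξ).obj i).left) (Category.id_comp _)) (fun i => mB_hom _ _ _)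
    (fun i => bm g (leg ξ i) (leg_hom ξ i)) (fun i => bm_fst g (leg ξ i) (leg_hom ξ i))
    (fun i => bm_leg_mB g ξ i) (fun i => isIso_mB g ((D ξ).obj i))
    (fun a => bm g ((D ξ).map a).left (Over.w ((D ξ).map a).hom))
    (fun a => bm_map_mB g ξ a) (fun a => bm_fst g ((D ξ).map a).left (Over.w ((D ξ).map a).hom)) i y hy

end Lim

section Lift

/-- The closed point. -/
noncomputable abbrev cl (R : Type u) [CommRing R] [IsLocalRing R] :
    Spec (CommRingCat.of (IsLocalRing.ResidueField R)) ⟶ Spec (CommRingCat.of R) :=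
  Spec.map (CommRingCat.ofHom (IsLocalRing.residue R))

theorem cl_default (R : Type u) [CommRing R] [IsLocalRing R] :
    cl R default = IsLocalRing.closedPoint R := by
  rw [Subsingleton.elim (default : Spec (CommRingCat.of (IsLocalRing.ResidueField R)))
    (IsLocalRing.closedPoint (IsLocalRing.ResidueField R))]
  exact IsLocalRing.comap_closedPoint (IsLocalRing.residue R)

/-- Points of étale schemes with values in henselian local rings lift from the closed point. -/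
theorem exists_lift {R : Type u} [CommRing R] [HenselianLocalRing R] {S W : Scheme.{u}} (f : W ⟶ S) [Etale f]
    (γ : Spec (CommRingCat.of R) ⟶ S) (v : Spec (CommRingCat.of (IsLocalRing.ResidueField R)) ⟶ W)
    (h : v ≫ f = cl R ≫ γ) : ∃ γ' : Spec (CommRingCat.of R) ⟶ W, γ' ≫ f = γ ∧ cl R ≫ γ' = v := by
  obtain ⟨s, hs, hs'⟩ := Etbase.HensSection.exists_section (pullback.snd f γ)
    (pullback.lift v (cl R) h) (pullback.lift_snd _ _ _)
  refine ⟨s ≫ pullback.fst f γ, ?_, ?_⟩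
  · rw [Category.assoc, pullback.condition, ← Category.assoc, hs, Category.id_comp]
  · rw [← Category.assoc]
    exact (congrArg (fun t => t ≫ pullback.fst f γ) hs').trans (pullback.lift_fst _ _ _)

/-- Two points with the same restriction to the closed point agree. -/
theorem lift_ext {R : Type u} [CommRing R] [IsLocalRing R] {S W : Scheme.{u}} (f : W ⟶ S) [Etale f]
    (a b : Spec (CommRingCat.of R) ⟶ W) (h : a ≫ f = b ≫ f) (h' : cl R ≫ a = cl R ≫ b) : a = b := by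
  let l : Spec (CommRingCat.of R) ⟶ pullback f f := pullback.lift a b h
  let e := pullback.fst l (pullback.diagonal f)
  have he : IsOpenImmersion e := inferInstance
  let c : Spec (CommRingCat.of (IsLocalRing.ResidueField R)) ⟶ pullback l (pullback.diagonal f) :=
    pullback.lift (cl R) (cl R ≫ a) (by
      apply pullback.hom_ext
      · rw [Category.assoc, Category.assoc, pullback.diagonal_fst, Category.comp_id, pullback.lift_fst]
      · rw [Category.assoc, Category.assoc, pullback.diagonal_snd, Category.comp_id, pullback.lift_snd, h'])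
  have hc : c ≫ e = cl R := pullback.lift_fst _ _ _
  have h1 : IsLocalRing.closedPoint R ∈ e.opensRange := by
    rw [← cl_default R, ← hc]
    exact ⟨c default, (Scheme.Hom.comp_apply c e default).symm⟩
  have h2 : e.opensRange = ⊤ := (IsLocalRing.closedPoint_mem_iff e.opensRange).1 h1
  have h3 : Surjective e := ⟨fun x => by
    have : x ∈ e.opensRange := h2 ▸ trivial
    exact this⟩
  have h4 : IsIso e := by
    rw [isIso_iff_isOpenImmersion_and_epi_base]
    exact ⟨he, (TopCat.epi_iff_surjective _).2 h3.surj⟩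
  rw [← cancel_epi e]
  have h5 : e ≫ l = pullback.snd l (pullback.diagonal f) ≫ pullback.diagonal f := pullback.condition
  have h6 := congrArg (fun t => t ≫ pullback.fst f f) h5
  have h7 := congrArg (fun t => t ≫ pullback.snd f f) h5
  simp only [Category.assoc, pullback.diagonal_fst, pullback.diagonal_snd, Category.comp_id] at h6 h7
  rw [show l ≫ pullback.fst f f = a from pullback.lift_fst _ _ _] at h6
  rw [show l ≫ pullback.snd f f = b from pullback.lift_snd _ _ _] at h7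
  rw [h6, h7]

end Lift

section Main

variable {S Y : Scheme.{u}} (g : Y ⟶ S) (F : EtCoh.Ab Y) (q : ℕ)

/-- Restriction from strictly henselian local rings to the closed point is bijective. -/
def HC : Prop :=
  ∀ (R : Type u) [CommRing R] [HenselianLocalRing R] [IsSepClosed (IsLocalRing.ResidueField R)]
    (γ : Spec (CommRingCat.of R) ⟶ S) (ξ : Spec (CommRingCat.of (IsLocalRing.ResidueField R)) ⟶ S)
    (h : cl R ≫ γ = ξ), Function.Bijective (rs g F (cl R) h q)

/-- Invariance under extensions of separably closed fields. -/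
def HK : Prop :=
  ∀ (k K : Type u) [Field k] [IsSepClosed k] [Field K] [IsSepClosed K] (φ : k →+* K)
    (ξ : Spec (CommRingCat.of k) ⟶ S) (ξ' : Spec (CommRingCat.of K) ⟶ S)
    (h : Spec.map (CommRingCat.ofHom φ) ≫ ξ = ξ'),
    Function.Bijective (rs g F (Spec.map (CommRingCat.ofHom φ)) h q)

variable {g F q}

theorem bijective_pt (hC : HC g F q) (hK : HK g F q) {Ω : Type u} [Field Ω] [IsSepClosed Ω]
    (ξ : Spec (CommRingCat.of Ω) ⟶ S) : Function.Bijective (rs g F (pt ξ) (pt_toBase ξ) q) := by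
  have hl : IsLocalHom (Etbase.StrictHensStalk.ev ξ).hom := by
    refine ⟨fun x hx => ?_⟩
    by_contra hne
    have h1 : x ∈ IsLocalRing.maximalIdeal (Osh ξ) := (IsLocalRing.mem_maximalIdeal x).2 hne
    rw [← StrictLoc.ker_ev ξ, RingHom.mem_ker] at h1
    rw [h1] at hx
    exact not_isUnit_zero hx
  let φ : IsLocalRing.ResidueField (Osh ξ) →+* Ω := IsLocalRing.ResidueField.lift (Etbase.StrictHensStalk.ev ξ).hom
  have hφ : φ.comp (IsLocalRing.residue (Osh ξ)) = (Etbase.StrictHensStalk.ev ξ).hom :=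
    IsLocalRing.ResidueField.lift_comp_residue _
  have e : Spec.map (CommRingCat.ofHom φ) ≫ cl (Osh ξ) = pt ξ := by
    rw [cl, ← Spec.map_comp, pt]
    congr 1
  have h1 := @hC (Osh ξ) _ (StrictLoc.henselianLocalRing ξ) (StrictLoc.isSepClosed_residueField ξ)
    (toBase ξ) _ rfl
  have e' : Spec.map (CommRingCat.ofHom φ) ≫ cl (Osh ξ) ≫ toBase ξ = ξ := by
    rw [← Category.assoc, e, pt_toBase]
  have h2 := hK _ _ φ (cl (Osh ξ) ≫ toBase ξ) ξ e'
  exact abs_comp_bij g F q _ e' _ _ _ (pt_toBase ξ) e h1 h2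

variable [QuasiCompact g] [QuasiSeparated g]

theorem surj_aux {R : Type u} [CommRing R] [HenselianLocalRing R] [IsSepClosed (IsLocalRing.ResidueField R)]
    (γ : Spec (CommRingCat.of R) ⟶ S) (ξ : Spec (CommRingCat.of (IsLocalRing.ResidueField R)) ⟶ S)
    (hξ : cl R ≫ γ = ξ) (hinj : Function.Injective (rs g F (cl R) hξ q))
    (hsurj : Function.Surjective (rs g F (pt ξ) (pt_toBase ξ) q)) (x : HT g F γ q) :
    ∃ (V : S.Etale) (γ' : Spec (CommRingCat.of R) ⟶ V.left) (h : γ' ≫ V.hom = γ)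
      (y : HT g F V.hom q), rs g F γ' h q y = x := by
  obtain ⟨x', hx'⟩ := hsurj (rs g F (cl R) hξ q x)
  obtain ⟨i, y, hy⟩ := exists_rs_leg g F q ξ x'
  have : Etale ((D ξ).obj i).hom := ((D ξ).obj i).prop
  obtain ⟨γ', h1, h2⟩ := exists_lift ((D ξ).obj i).hom γ (lft ξ i) ((lft_hom ξ i).trans hξ.symm)
  exact ⟨(D ξ).obj i, γ', h1, y, abs_nbSurj g F q (leg ξ i) (leg_hom ξ i) (pt ξ) (pt_toBase ξ) (lft ξ i) (lft_hom ξ i)
    (pt_leg ξ i) (cl R) hξ γ' h1 h2 hinj x x' y hx' hy⟩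

theorem inj_aux {R : Type u} [CommRing R] [HenselianLocalRing R] [IsSepClosed (IsLocalRing.ResidueField R)]
    (γ : Spec (CommRingCat.of R) ⟶ S) (ξ : Spec (CommRingCat.of (IsLocalRing.ResidueField R)) ⟶ S)
    (hξ : cl R ≫ γ = ξ) (hinj : Function.Injective (rs g F (pt ξ) (pt_toBase ξ) q))
    (V : S.Etale) (γ' : Spec (CommRingCat.of R) ⟶ V.left) (h : γ' ≫ V.hom = γ) (y : HT g F V.hom q)
    (hy : rs g F γ' h q y = 0) :
    ∃ (V' : S.Etale) (k : V' ⟶ V) (γ'' : Spec (CommRingCat.of R) ⟶ V'.left),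
      γ'' ≫ k.left = γ' ∧ rs g F k.left (Over.w k.hom) q y = 0 := by
  have hv : (cl R ≫ γ') ≫ V.hom = ξ := by rw [Category.assoc, h, hξ]
  obtain ⟨i, m, hm⟩ := StrictLoc.exists_hom ξ V (Over.homMk (cl R ≫ γ') hv)
  have hm' : lft ξ i ≫ m.left = cl R ≫ γ' := congrArg CommaMorphism.left hm
  obtain ⟨k, a, hk⟩ := exists_dies g F q ξ i _
    (abs_nbInj g F q (leg ξ i) (leg_hom ξ i) (pt ξ) (pt_toBase ξ) (lft ξ i) (lft_hom ξ i)
      (pt_leg ξ i) (cl R) hξ γ' h m.left (Over.w m.hom) hm' hinj y hy)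
  have : Etale ((D ξ).obj k).hom := ((D ξ).obj k).prop
  have : Etale V.hom := V.prop
  obtain ⟨γ'', h2, h3⟩ := exists_lift ((D ξ).obj k).hom γ (lft ξ k) ((lft_hom ξ k).trans hξ.symm)
  have hw : ((D ξ).map a ≫ m).left ≫ V.hom = ((D ξ).obj k).hom := Over.w ((D ξ).map a ≫ m).hom
  refine ⟨(D ξ).obj k, (D ξ).map a ≫ m, γ'', ?_, ?_⟩
  · apply lift_ext V.hom
    · exact (Category.assoc _ _ _).trans ((congrArg (fun t => γ'' ≫ t) hw).trans (h2.trans h.symm))
    · exact (Category.assoc _ _ _).symm.trans ((congrArg (fun t => t ≫ ((D ξ).map a ≫ m).left) h3).trans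
        ((Category.assoc _ _ _).symm.trans ((congrArg (fun t => t ≫ m.left) (lft_map ξ a)).trans hm')))
  · exact (rs_rs g F m.left (Over.w m.hom) ((D ξ).map a).left (Over.w ((D ξ).map a).hom)
      ((D ξ).map a ≫ m).left rfl hw q y).symm.trans hk

theorem surj_main (hC : HC g F q) (hK : HK g F q) {R : Type u} [CommRing R] [HenselianLocalRing R]
    [IsSepClosed (IsLocalRing.ResidueField R)] (γ : Spec (CommRingCat.of R) ⟶ S) (x : HT g F γ q) :
    ∃ (V : S.Etale) (γ' : Spec (CommRingCat.of R) ⟶ V.left) (h : γ' ≫ V.hom = γ)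
      (y : HT g F V.hom q), rs g F γ' h q y = x :=
  surj_aux γ (cl R ≫ γ) rfl (hC R γ _ rfl).1 (bijective_pt hC hK (cl R ≫ γ)).2 x

theorem inj_main (hC : HC g F q) (hK : HK g F q) {R : Type u} [CommRing R] [HenselianLocalRing R]
    [IsSepClosed (IsLocalRing.ResidueField R)] (γ : Spec (CommRingCat.of R) ⟶ S)
    (V : S.Etale) (γ' : Spec (CommRingCat.of R) ⟶ V.left) (h : γ' ≫ V.hom = γ) (y : HT g F V.hom q)
    (hy : rs g F γ' h q y = 0) :
    ∃ (V' : S.Etale) (k : V' ⟶ V) (γ'' : Spec (CommRingCat.of R) ⟶ V'.left),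
      γ'' ≫ k.left = γ' ∧ rs g F k.left (Over.w k.hom) q y = 0 :=
  inj_aux γ (cl R ≫ γ) rfl (bijective_pt hC hK (cl R ≫ γ)).1 V γ' h y hy

theorem nbSurj_of (hC : HC g F q) (hK : HK g F q) : NbSurj g F q :=
  fun R _ _ ⟨_, _⟩ γ x => surj_main hC hK γ x

theorem nbInj_of (hC : HC g F q) (hK : HK g F q) : NbInj g F q :=
  fun R _ _ ⟨_, _⟩ γ V γ' h y hy => inj_main hC hK γ V γ' h y hy

end Main

end Groth.Agent.Lefpen.H416.NbCore
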