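import Groth.Agent.S3695
import Groth.Agent.Sga5.ProjSmooth
import Groth.Agent.Sga5.ProjReg
import Groth.Agent.CohqA.ProjDim
import Groth.Agent.CurvesC.RegNormal
import Groth.Agent.Ega3B.ProjProper

/-!
# Projective space over an algebraically closed field is simply connected

`isSplit`: every finite étale cover of `P^n_k`, `k` algebraically closed, is split.
-/

set_option autoImplicit false
universe u

open CategoryTheory CategoryTheory.Limits AlgebraicGeometry Opposite

namespace Groth.Agent.Lefpen.H416.ProjSC

/-- The local ring at the generic point, from a chart. -/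
theorem nonempty_of_chart (k : Type u) [Field k] {X : Scheme.{u}}
    [X.Over (Spec (CommRingCat.of k))] (A : Type u) [CommRing A] [IsDomain A] [Algebra k A]
    (c : Spec (CommRingCat.of A) ⟶ X) [IsOpenImmersion c]
    (hc : c ≫ (X ↘ Spec (CommRingCat.of k)) = Spec.map (CommRingCat.ofHom (algebraMap k A)))
    (x : X) (hx : c (genericPoint (Spec (CommRingCat.of A))) = x) :
    letI := Curv2.stalkAlgebra k X x
    Nonempty (X.presheaf.stalk x ≃ₐ[k] FractionRing A) := by
  subst hx
  let g := genericPoint (Spec (CommRingCat.of A))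
  let _ := Curv2.stalkAlgebra k X (c g)
  let _ : Algebra A ((Spec (CommRingCat.of A)).presheaf.stalk g) :=
    (StructureSheaf.toStalk A g).hom.toAlgebra
  have hfr : IsFractionRing A ((Spec (CommRingCat.of A)).presheaf.stalk g) := by
    have : IsDomain (CommRingCat.of A) := inferInstanceAs (IsDomain A)
    exact functionField_isFractionRing_of_affine (CommRingCat.of A)
  let e1 : FractionRing A ≃ₐ[A] (Spec (CommRingCat.of A)).presheaf.stalk g :=
    FractionRing.algEquiv A _
  let e2 := (asIso (c.stalkMap g)).commRingCatIsoToRingEquiv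
  let e : X.presheaf.stalk (c g) ≃+* FractionRing A := e2.trans e1.symm.toRingEquiv
  refine ⟨AlgEquiv.ofRingEquiv (f := e) fun a => ?_⟩
  change e1.symm (c.stalkMap g (Curv2.stalkMap k X (c g) a)) = _
  have key : CommRingCat.ofHom (Curv2.stalkMap k X (c g)) ≫ c.stalkMap g =
      CommRingCat.ofHom (algebraMap k A) ≫ StructureSheaf.toStalk A g := by
    apply Spec.map_injective
    refine (Spec.map_comp _ _).trans ?_
    rw [Groth.Agent.VarietyA.ResMap.specMap_stalkMap]
    refine Eq.trans ?_ (Spec.map_comp _ _).symm
    refine (Category.assoc _ _ _).symm.trans ?_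
    rw [Scheme.SpecMap_stalkMap_fromSpecStalk]
    refine (Category.assoc _ _ _).trans ?_
    rw [hc]
    exact congrArg (· ≫ Spec.map (CommRingCat.ofHom (algebraMap k A)))
      (Spec.fromSpecStalk_eq' (CommRingCat.of A) g)
  have h1 : c.stalkMap g (Curv2.stalkMap k X (c g) a) =
      algebraMap A ((Spec (CommRingCat.of A)).presheaf.stalk g) (algebraMap k A a) :=
    ConcreteCategory.congr_hom key a
  rw [h1, e1.symm.commutes]
  rfl

variable (k : Type u) [Field k] (n : ℕ)

/-- `P^n_k` is normal. -/
theorem isNormalScheme : Pi1.IsNormalScheme (CohB1.ProjSpace n k) := by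
  intro y
  have h := Groth.Agent.Sga5.ProjReg.isRegularLocalRing_stalk n k y
  exact ⟨inferInstance, Groth.Agent.CurvesC.RegNormal.isIntegrallyClosed _⟩

/-- **Projective space over an algebraically closed field is simply connected.** -/
theorem isSplit [IsAlgClosed k] (Y : FEt.Cat (CohB1.ProjSpace n k)) : Pi1.IsSplit Y := by
  have h1 : IsProper (CohB1.ProjSpace n k ↘ Spec (CommRingCat.of k)) :=
    Groth.Agent.Ega3B.ProjProper.isProper_toSpec n k
  obtain ⟨e⟩ := nonempty_of_chart k (MvPolynomial (Fin n) k) (Groth.Agent.Sga5.ProjSmooth.chart n k 0)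
    (Groth.Agent.Sga5.ProjSmooth.chart_toSpec n k 0) (genericPoint (CohB1.ProjSpace n k))
    (genericPoint_eq_of_isOpenImmersion _)
  exact Groth.Agent.S3695.result k (CohB1.ProjSpace n k) (isNormalScheme k n) n e Y

end Groth.Agent.Lefpen.H416.ProjSC
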