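import Groth.Agent.Lefpen.H534.IsoTorsor
import Groth.Agent.EtpbcA.FLC
import Groth.Prelude.Def_Pi1

/-!
# Finite locally constant sheaves on a simply connected scheme are constant

`X` connected, locally Noetherian, all of whose finite étale covers are split, `F` a finite locally
constant abelian sheaf on `X`.

* `exists_const`: `F` is constant: some `φ : M →+ F(X)`, `M` finite, is bijective on all geometric
  stalks;
* `nonempty_iso_const`: `F ≅ const X M`;
* `exists_global`: every section is locally the restriction of a global section; `germ_global`: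
  every germ comes from a global section; `germ_injective`: a global section is determined by one
  germ.
-/

set_option autoImplicit false
universe u

open CategoryTheory CategoryTheory.Limits AlgebraicGeometry Opposite

namespace Groth.Agent.Lefpen.H416.SimplyConn

open Groth.Agent.EtpbcA

variable {X : Scheme.{u}}

/-- The map to the final object. -/
noncomputable def toTop (V : X.Etale) : V ⟶ EtCoh.top X :=
  MorphismProperty.Over.homMk V.hom (Category.comp_id _)

theorem hom_top_ext {V : X.Etale} (a b : V ⟶ EtCoh.top X) : a = b := by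
  have h : ∀ c : V ⟶ EtCoh.top X, c.left = V.hom := fun c => by
    have := Over.w c.hom
    exact (Category.comp_id _).symm.trans this
  apply MorphismProperty.Over.Hom.ext
  rw [h a, h b]

/-- Two étale covers: a section of a connected finite étale cover of a simply connected scheme. -/
theorem exists_section (hX : ∀ Y : FEt.Cat X, Pi1.IsSplit Y) (A : X.Etale) (hA : IsFinite A.hom)
    [Nonempty A.left] : Nonempty (EtCoh.top X ⟶ A) := by
  have hE : Etale A.hom := A.prop
  let Y : FEt.Cat X := MorphismProperty.Over.mk ⊤ A.hom ⟨hA, hE⟩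
  obtain ⟨ι, _, e, he⟩ := hX Y
  obtain ⟨a⟩ := (inferInstance : Nonempty A.left)
  let i : ι := (sigmaOpenCover (fun _ : ι => X)).idx (e.hom a)
  exact ⟨MorphismProperty.Over.homMk (Sigma.ι (fun _ : ι => X) i ≫ e.inv) (by
    rw [Category.assoc]; exact he i)⟩

/-- **A finite locally constant sheaf on a simply connected scheme is constant.** -/
theorem exists_const [ConnectedSpace X] [IsLocallyNoetherian X]
    (hX : ∀ Y : FEt.Cat X, Pi1.IsSplit Y) (F : EtCoh.Ab X)
    (hF : EtCoh.IsFiniteLocallyConstant F) :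
    ∃ (M : Type) (_ : AddCommGroup M) (_ : Finite M) (φ : M →+ EtCoh.sect F (EtCoh.top X)),
      FLC.IsConstVia F (EtCoh.top X) φ := by
  obtain ⟨D⟩ := Groth.Agent.Lefpen.H534.IsoTorsor.Gal.nonempty F hF
  obtain ⟨s⟩ := exists_section hX D.A D.isFinite
  exact ⟨D.M, inferInstance, inferInstance, (Germ.res F s).comp D.φ, D.isConstVia.res s⟩

section Global

variable {M : Type} [AddCommGroup M] {F : EtCoh.Ab X} {φ : M →+ EtCoh.sect F (EtCoh.top X)}

/-- Every germ of a constant sheaf comes from a global section. -/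
theorem germ_global (h : FLC.IsConstVia F (EtCoh.top X) φ) {Ω : Type u} [Field Ω] [IsSepClosed Ω]
    (ξ : Spec (CommRingCat.of Ω) ⟶ X) {U : X.Etale} (t : Germ.Fib ξ U) (s : EtCoh.sect F U) :
    ∃ m, Germ.germ ξ F t s = Germ.germ ξ F t (Germ.res F (toTop U) (φ m)) := by
  obtain ⟨m, hm⟩ := (h Ω ξ (Germ.fmap ξ (toTop U) t)).2 (Germ.germ ξ F t s)
  exact ⟨m, by rw [Germ.germ_res']; exact hm.symm⟩

/-- Every section of a constant sheaf is locally the restriction of a global section. -/
theorem exists_local (h : FLC.IsConstVia F (EtCoh.top X) φ) {U : X.Etale} (u : U.left)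
    (s : EtCoh.sect F U) : ∃ (m : M) (W : X.Etale) (k : W ⟶ U) (w : W.left), k.left w = u ∧
      Germ.res F k s = Germ.res F (toTop W) (φ m) := by
  obtain ⟨W, k, w, m, hw, e⟩ := h.surjective (toTop U) u s
  refine ⟨m, W, k, w, hw, ?_⟩
  rw [e]
  congr 1
  exact congrArg (Germ.res F) (hom_top_ext _ _)

/-- The points where a global section agrees with `φ m`. -/
def agree (F : EtCoh.Ab X) (s t : EtCoh.sect F (EtCoh.top X)) : Set X :=
  {x | ∃ (W : X.Etale) (w : W.left), W.hom w = x ∧
    Germ.res F (toTop W) s = Germ.res F (toTop W) t}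

theorem isOpen_agree (F : EtCoh.Ab X) (s t : EtCoh.sect F (EtCoh.top X)) :
    IsOpen (agree F s t) := by
  have h : agree F s t = ⋃ W : {W : X.Etale // Germ.res F (toTop W) s = Germ.res F (toTop W) t},
      Set.range W.1.hom := by
    ext x
    rw [Set.mem_iUnion]
    exact ⟨fun ⟨W, w, hw, e⟩ => ⟨⟨W, e⟩, w, hw⟩, fun ⟨W, w, hw⟩ => ⟨W.1, w, hw, W.2⟩⟩
  rw [h]
  refine isOpen_iUnion fun W => ?_
  have hE : Etale W.1.hom := W.1.prop
  exact W.1.hom.isOpenMap.isOpen_range

theorem disjoint_agree (h : FLC.IsConstVia F (EtCoh.top X) φ) (s : EtCoh.sect F (EtCoh.top X))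
    {m m' : M} {x : X} (hm : x ∈ agree F s (φ m)) (hm' : x ∈ agree F s (φ m')) : m = m' := by
  obtain ⟨W, w, hw, e⟩ := hm
  obtain ⟨W', w', hw', e'⟩ := hm'
  obtain ⟨Ω, _, _, ξ, t, ht⟩ := Germ.exists_geomPt w
  obtain ⟨z, -, hz⟩ := Germ.exists_lift ξ (toTop W') (Germ.fmap ξ (toTop W) t) w' (by
    rw [Germ.pt_fmap, ht]
    exact hw'.trans hw.symm)
  obtain ⟨V, a, b, v, -, -⟩ := Germ.exists_common ξ W W' t z
  refine h.injective (toTop V) (Germ.pt ξ v) ?_
  have h1 := congrArg (Germ.res F a) e
  have h2 := congrArg (Germ.res F b) e'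
  rw [← Germ.res_comp, ← Germ.res_comp] at h1 h2
  rw [hom_top_ext (toTop V) (a ≫ toTop W), ← h1, hom_top_ext (a ≫ toTop W) (b ≫ toTop W'), h2]

/-- The global sections of a constant sheaf on a connected scheme. -/
theorem bijective_of_isConstVia [ConnectedSpace X] (h : FLC.IsConstVia F (EtCoh.top X) φ) :
    Function.Bijective φ := by
  obtain ⟨x⟩ := (inferInstance : Nonempty X)
  refine ⟨fun m m' e => h.injective (𝟙 (EtCoh.top X)) x (by rw [e]), fun s => ?_⟩
  have hcov : ∀ y : X, ∃ m, y ∈ agree F s (φ m) := by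
    intro y
    obtain ⟨m, W, k, w, hw, e⟩ := exists_local h (U := EtCoh.top X) y s
    refine ⟨m, W, w, ?_, ?_⟩
    · rw [← hw]
      have h1 := Over.w k.hom
      have h2 : k.left = W.hom := (Category.comp_id _).symm.trans h1
      rw [h2]
      rfl
    · rw [hom_top_ext (toTop W) k, e, hom_top_ext k (toTop W)]
  obtain ⟨m, hm⟩ := hcov x
  have hcl : IsClopen (agree F s (φ m)) := by
    refine ⟨⟨?_⟩, isOpen_agree F s (φ m)⟩
    have h1 : (agree F s (φ m))ᶜ = ⋃ n : {n : M // n ≠ m}, agree F s (φ n.1) := by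
      ext y
      rw [Set.mem_iUnion]
      constructor
      · intro hy
        obtain ⟨n, hn⟩ := hcov y
        exact ⟨⟨n, fun e => hy (e ▸ hn)⟩, hn⟩
      · rintro ⟨n, hn⟩ hy
        exact n.2 (disjoint_agree h s hn hy)
    rw [h1]
    exact isOpen_iUnion fun n => isOpen_agree F s _
  have huniv := hcl.eq_univ ⟨x, hm⟩
  refine ⟨m, (Germ.sect_ext F _ _ fun y => ?_).symm⟩
  have hy : (y : X) ∈ agree F s (φ m) := by rw [huniv]; trivial
  obtain ⟨W, w, hw, e⟩ := hy
  exact ⟨W, toTop W, ⟨w, hw⟩, e⟩

/-- **Global sections of a constant sheaf on a connected scheme are its germs.** -/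
theorem bijective_germ [ConnectedSpace X] (h : FLC.IsConstVia F (EtCoh.top X) φ) {Ω : Type u}
    [Field Ω] [IsSepClosed Ω] (ξ : Spec (CommRingCat.of Ω) ⟶ X) (t : Germ.Fib ξ (EtCoh.top X)) :
    Function.Bijective (Germ.germ ξ F t) := by
  have h1 := h Ω ξ t
  have h2 := bijective_of_isConstVia h
  exact (Function.Bijective.of_comp_iff _ h2).1 h1

end Global

section Iso

variable {M : Type} [AddCommGroup M] (F : EtCoh.Ab X)

/-- The map from the constant presheaf. -/
noncomputable def constTo (φ : M →+ EtCoh.sect F (EtCoh.top X)) :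
    (Functor.const X.Etaleᵒᵖ).obj (AddCommGrpCat.of (ULift.{u + 1} M)) ⟶ F.obj where
  app V := AddCommGrpCat.ofHom
    ((Germ.res F (toTop V.unop)).comp (φ.comp AddEquiv.ulift.toAddMonoidHom))
  naturality V W f := by
    ext m
    simp only [Functor.const_obj_obj, Functor.const_obj_map, Category.id_comp]
    change Germ.res F (toTop W.unop) (φ m.down) =
      Germ.res F f.unop (Germ.res F (toTop V.unop) (φ m.down))
    rw [← Germ.res_comp, hom_top_ext (toTop W.unop) (f.unop ≫ toTop V.unop)]

theorem constTo_app (φ : M →+ EtCoh.sect F (EtCoh.top X)) (V : X.Etaleᵒᵖ) (m : ULift.{u + 1} M) :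
    (constTo F φ).app V m = Germ.res F (toTop V.unop) (φ m.down) := rfl

theorem W_constTo {φ : M →+ EtCoh.sect F (EtCoh.top X)} (h : FLC.IsConstVia F (EtCoh.top X) φ) :
    X.smallEtaleTopology.W (constTo F φ) := by
  rw [GrothendieckTopology.W_iff_isLocallyBijective]
  refine ⟨⟨?_⟩, ⟨?_⟩⟩
  · intro V m m' e
    rw [Germ.mem_iff]
    intro v
    refine ⟨V.unop, 𝟙 _, ?_, v, rfl⟩
    have : m.down = m'.down := h.injective (toTop V.unop) v e
    have : m = m' := ULift.down_injective this
    subst this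
    rfl
  · intro V s
    rw [Germ.mem_iff]
    intro v
    obtain ⟨m, W, k, w, hw, e⟩ := exists_local h v s
    exact ⟨W, k, ⟨⟨m⟩, e.symm⟩, w, hw⟩

theorem nonempty_iso {φ : M →+ EtCoh.sect F (EtCoh.top X)}
    (h : FLC.IsConstVia F (EtCoh.top X) φ) : Nonempty (F ≅ EtCoh.const X M) := by
  have hW := W_constTo F h
  rw [GrothendieckTopology.W_iff] at hW
  exact ⟨(asIso ((sheafificationAdjunction X.smallEtaleTopology
      AddCommGrpCat.{u + 1}).counit.app F)).symm ≪≫
        (asIso ((presheafToSheaf X.smallEtaleTopology AddCommGrpCat.{u + 1}).map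
          (constTo F φ))).symm⟩

end Iso

/-- **A finite locally constant sheaf on a simply connected scheme is isomorphic to a constant
sheaf.** -/
theorem nonempty_iso_const [ConnectedSpace X] [IsLocallyNoetherian X]
    (hX : ∀ Y : FEt.Cat X, Pi1.IsSplit Y) (F : EtCoh.Ab X)
    (hF : EtCoh.IsFiniteLocallyConstant F) :
    ∃ (M : Type) (_ : AddCommGroup M) (_ : Finite M), Nonempty (F ≅ EtCoh.const X M) := by
  obtain ⟨M, _, _, φ, h⟩ := exists_const hX F hF
  exact ⟨M, inferInstance, inferInstance, nonempty_iso F h⟩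

end Groth.Agent.Lefpen.H416.SimplyConn
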