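import Groth.Agent.S0711
import Groth.Agent.Etrest.ConstBasic
import Groth.Agent.Lefpen.H416.SimplyConn
import Groth.Agent.Lefpen.H416.ProjSC

/-!
# Higher direct images of constant sheaves along proper smooth morphisms to projective space

`k` algebraically closed, `f : X' ⟶ P^r_k` proper and smooth, `N` invertible in `k`: the sheaves
`R^q f_* (Z/N)` are constant:

* `exists_const`: some `φ : M →+ Γ(P^r, R^q f_* (Z/N))`, `M` finite, is bijective on all stalks;
* `nonempty_iso_const`: `R^q f_* (Z/N) ≅ const M`;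
* `germ_global`, `exists_local`: every germ / every section locally comes from a global section;
* `bijective_germ`: `Γ(P^r, R^q f_* (Z/N))` is the stalk at any geometric point.
-/

set_option autoImplicit false
universe u

open CategoryTheory CategoryTheory.Limits AlgebraicGeometry Opposite

namespace Groth.Agent.Lefpen.H416.P1Const

open Groth.Agent.EtpbcA

/-- `R^q f_* (Z/N)` is finite locally constant for `f` proper smooth over a `k`-scheme. -/
theorem isFLC_Rpush (k : Type u) [Field k] {X' Y : Scheme.{u}} (p : Y ⟶ Spec (CommRingCat.of k))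
    (f : X' ⟶ Y) [IsProper f] [Smooth f] (N : ℕ) (hN : (N : k) ≠ 0) (q : ℕ) :
    EtCoh.IsFiniteLocallyConstant ((EtCoh.Rpush f q).obj (EtCoh.const X' (ZMod N))) := by
  have hN0 : N ≠ 0 := by
    rintro rfl
    exact hN Nat.cast_zero
  have : NeZero N := ⟨hN0⟩
  have : Finite (ZMod N) := inferInstance
  refine Groth.Agent.S0711.result f _
    (Groth.Agent.Etrest.ConstBasic.isFiniteLocallyConstant_const X' (ZMod N)) ?_ q
  intro Ω _ _ ξ
  refine ⟨N, Nat.pos_of_ne_zero hN0, ?_, ?_⟩
  · intro h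
    let φ : k →+* Ω := (Spec.preimage (ξ ≫ f ≫ p)).hom
    apply hN
    apply φ.injective
    rw [map_natCast, map_zero, h]
  · intro s
    obtain ⟨U, t, s, rfl⟩ := Germ.germ_surj ξ _ s
    have h1 : N • s = 0 := Groth.Agent.Etrest.ConstBasic.killedBy_const X' (ZMod N) N
      (fun m => by rw [nsmul_eq_mul, ZMod.natCast_self, zero_mul]) U s
    rw [← map_nsmul, h1, map_zero]

section Proj

variable (k : Type u) [Field k] [IsAlgClosed k] (r : ℕ) {X' : Scheme.{u}}
  (f : X' ⟶ CohB1.ProjSpace r k) [IsProper f] [Smooth f] (N : ℕ) (hN : (N : k) ≠ 0) (q : ℕ)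

instance : IsLocallyNoetherian (CohB1.ProjSpace r k) :=
  have := Groth.Agent.Ega3B.ProjProper.isProper_toSpec r k
  LocallyOfFiniteType.isLocallyNoetherian (CohB1.ProjSpace.toSpec r k)

include hN

/-- **`R^q f_* (Z/N)` is constant.** -/
theorem exists_const : ∃ (M : Type) (_ : AddCommGroup M) (_ : Finite M)
    (φ : M →+ EtCoh.sect ((EtCoh.Rpush f q).obj (EtCoh.const X' (ZMod N)))
      (EtCoh.top (CohB1.ProjSpace r k))), FLC.IsConstVia _ _ φ :=
  SimplyConn.exists_const (ProjSC.isSplit k r) _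
    (isFLC_Rpush k (CohB1.ProjSpace.toSpec r k) f N hN q)

/-- `R^q f_* (Z/N)` is isomorphic to a constant sheaf. -/
theorem nonempty_iso_const : ∃ (M : Type) (_ : AddCommGroup M) (_ : Finite M),
    Nonempty ((EtCoh.Rpush f q).obj (EtCoh.const X' (ZMod N)) ≅
      EtCoh.const (CohB1.ProjSpace r k) M) :=
  SimplyConn.nonempty_iso_const (ProjSC.isSplit k r) _
    (isFLC_Rpush k (CohB1.ProjSpace.toSpec r k) f N hN q)

/-- Every germ comes from a global section. -/
theorem germ_global {Ω : Type u} [Field Ω] [IsSepClosed Ω]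
    (ξ : Spec (CommRingCat.of Ω) ⟶ CohB1.ProjSpace r k) {U : (CohB1.ProjSpace r k).Etale}
    (t : Germ.Fib ξ U) (s : EtCoh.sect ((EtCoh.Rpush f q).obj (EtCoh.const X' (ZMod N))) U) :
    ∃ s₀ : EtCoh.sect ((EtCoh.Rpush f q).obj (EtCoh.const X' (ZMod N)))
      (EtCoh.top (CohB1.ProjSpace r k)),
      Germ.germ ξ _ t s = Germ.germ ξ _ t (Germ.res _ (SimplyConn.toTop U) s₀) := by
  obtain ⟨M, _, _, φ, h⟩ := exists_const k r f N hN q
  obtain ⟨m, hm⟩ := SimplyConn.germ_global h ξ t s
  exact ⟨φ m, hm⟩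

/-- Every section comes locally from a global section. -/
theorem exists_local {U : (CohB1.ProjSpace r k).Etale} (u : U.left)
    (s : EtCoh.sect ((EtCoh.Rpush f q).obj (EtCoh.const X' (ZMod N))) U) :
    ∃ (s₀ : EtCoh.sect ((EtCoh.Rpush f q).obj (EtCoh.const X' (ZMod N)))
      (EtCoh.top (CohB1.ProjSpace r k))) (W : (CohB1.ProjSpace r k).Etale) (g : W ⟶ U)
      (w : W.left), g.left w = u ∧
        Germ.res _ g s = Germ.res _ (SimplyConn.toTop W) s₀ := by
  obtain ⟨M, _, _, φ, h⟩ := exists_const k r f N hN q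
  obtain ⟨m, W, g, w, hw, e⟩ := SimplyConn.exists_local h u s
  exact ⟨φ m, W, g, w, hw, e⟩

/-- The global sections are the stalk at any geometric point. -/
theorem bijective_germ {Ω : Type u} [Field Ω] [IsSepClosed Ω]
    (ξ : Spec (CommRingCat.of Ω) ⟶ CohB1.ProjSpace r k)
    (t : Germ.Fib ξ (EtCoh.top (CohB1.ProjSpace r k))) :
    Function.Bijective (Germ.germ ξ ((EtCoh.Rpush f q).obj (EtCoh.const X' (ZMod N))) t) := by
  obtain ⟨M, _, _, φ, h⟩ := exists_const k r f N hN q
  exact SimplyConn.bijective_germ h ξ t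

end Proj

end Groth.Agent.Lefpen.H416.P1Const
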